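import Groth.Agent.ThetaS.K942.EqGeom
import Groth.Agent.ThetaS.K942.SchReg
import Mathlib.RingTheory.Flat.FaithfullyFlat.Basic

/-!
# Equivariant vectors of functions on torsors over affine schemes: lifting and gluing
-/

set_option autoImplicit false
set_option linter.dupNamespace false
set_option linter.style.haveILetI false
set_option backward.isDefEq.respectTransparency false
set_option backward.isDefEq.respectTransparency.types false

universe u

open CategoryTheory CategoryTheory.Limits MonoidalCategory CartesianMonoidalCategory MonObj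
  AlgebraicGeometry Opposite

namespace K831.EqMod

open K942.EqAlg K942.EqGeom K942.RegPair K943.QuotAtlas

theorem surjective_of_bc {A B M M' N N' : Type*} [CommRing A] [CommRing B] [Algebra A B]
    [Module.FaithfullyFlat A B] [AddCommGroup M] [Module A M] [AddCommGroup M'] [Module A M'] [AddCommGroup N]
    [Module A N] [Module B N] [IsScalarTower A B N] [AddCommGroup N'] [Module A N'] [Module B N']
    [IsScalarTower A B N'] {f : M →ₗ[A] N} {f' : M' →ₗ[A] N'} (hf : IsBaseChange B f) (hf' : IsBaseChange B f')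
    (m : M →ₗ[A] M') (n : N →ₗ[B] N') (hn : Function.Surjective n) (hc : ∀ x, f' (m x) = n (f x)) :
    Function.Surjective m := by
  rw [← Module.FaithfullyFlat.lTensor_surjective_iff_surjective A B]
  have hcomm : ∀ z, hf'.equiv (m.lTensor B z) = n (hf.equiv z) := by
    intro z
    induction z using TensorProduct.induction_on with
    | zero => simp only [map_zero]
    | add x y hx hy => rw [map_add, map_add, map_add, map_add, hx, hy]
    | tmul c v =>
      rw [LinearMap.lTensor_tmul, IsBaseChange.equiv_tmul, IsBaseChange.equiv_tmul, map_smul, hc]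
  intro y
  obtain ⟨x, hx⟩ := hn (hf'.equiv y)
  refine ⟨hf.equiv.symm x, hf'.equiv.injective ?_⟩
  rw [hcomm, LinearEquiv.apply_symm_apply, hx]

variable {S : Scheme.{u}} {G : Over S} [GrpObj G] {n r : ℕ}

section defs

variable {P : Over S} (a : AlgGrp.Action G P)

/-- Equivariant vectors of functions. -/
def IsEqv (ρ : MatRep G n) (v : Fin n → Γ(P.left, ⊤)) : Prop :=
  (fun i => pb a.act (v i)) = (ρ.mat (fst G P)).mulVec (fun i => pb (snd G P) (v i))

variable {a} {ρ : MatRep G n} {v : Fin n → Γ(P.left, ⊤)}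

theorem map_mulVec {R R' : Type*} [CommRing R] [CommRing R'] (f : R →+* R')
    (M : Matrix (Fin r) (Fin n) R) (v : Fin n → R) :
    (fun i => f ((M.mulVec v) i)) = (M.map f).mulVec (fun i => f (v i)) := by
  ext i
  simp only [Matrix.mulVec, dotProduct, map_sum, map_mul, Matrix.map_apply]

theorem isEqv_sm (hv : IsEqv a ρ v) {Z : Over S} (g : Z ⟶ G) (x : Z ⟶ P) :
    (fun i => pb (sm a g x) (v i)) = (ρ.mat g).mulVec (fun i => pb x (v i)) := by
  have h1 : ∀ i, pb (sm a g x) (v i) = pb (CartesianMonoidalCategory.lift g x) (pb a.act (v i)) := fun i => by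
    rw [sm_def, pb_comp]
  have h2 : (fun i => pb (sm a g x) (v i)) = fun i => pb (CartesianMonoidalCategory.lift g x)
      (((ρ.mat (fst G P)).mulVec (fun i => pb (snd G P) (v i))) i) := by
    funext i
    rw [h1]
    exact congrArg (pb (CartesianMonoidalCategory.lift g x)) (congrFun hv i)
  rw [h2, map_mulVec, ← ρ.comp, lift_fst]
  congr 1
  funext i
  rw [← pb_comp, lift_snd]

end defs

section aff

variable {P T : Over S} (a : AlgGrp.Action G P) {p : P ⟶ T} (hc : IsPullback a.act (snd G P) p p)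
  [IsAffineHom G.hom] [Flat G.hom] [IsAffine T.left] [IsAffineHom p.left]

omit [GrpObj G] in
theorem snd_props (P : Over S) : IsAffineHom (snd G P).left ∧ Flat (snd G P).left := by
  refine ⟨K750.QuotAff.isAffineHom_snd G P, ?_⟩
  have h := (AlgSt.isPullback_fst_snd G P).map (Over.forget S)
  have h' : IsPullback (fst G P).left (snd G P).left (toUnit G).left (toUnit P).left := h
  have h'' : Flat (toUnit G).left := by
    have : (toUnit G).left = G.hom := by simp
    rw [this]; infer_instance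
  exact MorphismProperty.of_isPullback h' h''

include hc

/-- Base change of equivariant vectors along a point of the torsor. -/
theorem exists_bc (ρ : MatRep G n) [Algebra Γ(T.left, ⊤) Γ(P.left, ⊤)]
    (hP : algebraMap Γ(T.left, ⊤) Γ(P.left, ⊤) = pb p) :
    ∃ (M : Submodule Γ(T.left, ⊤) (Fin n → Γ(P.left, ⊤))), (∀ v, v ∈ M ↔ IsEqv a ρ v) ∧
      ∀ {Q : Over S} (s : Q ⟶ P) [IsAffine Q.left] [Flat (s ≫ p).left] [Algebra Γ(T.left, ⊤) Γ(Q.left, ⊤)]
        (_ : algebraMap Γ(T.left, ⊤) Γ(Q.left, ⊤) = pb (s ≫ p)),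
        ∃ (f : M →ₗ[Γ(T.left, ⊤)] (Fin n → Γ(Q.left, ⊤))), (∀ v i, f v i = pb s (v.1 i)) ∧
          IsBaseChange Γ(Q.left, ⊤) f := by
  obtain ⟨i1, i2⟩ := snd_props (G := G) P
  letI aGP : Algebra Γ(T.left, ⊤) Γ((G ⊗ P).left, ⊤) := (pb (snd G P ≫ p)).toAlgebra
  haveI : IsAffine P.left := isAffine_of_isAffineHom p.left
  haveI : IsAffine (G ⊗ P).left := isAffine_of_isAffineHom (snd G P).left
  let act : Γ(P.left, ⊤) →ₐ[Γ(T.left, ⊤)] Γ((G ⊗ P).left, ⊤) :=
    { pb a.act with
      commutes' := fun r => by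
        change pb a.act (algebraMap _ _ r) = pb (snd G P ≫ p) r
        rw [hP, ← pb_comp, hc.w] }
  let pr : Γ(P.left, ⊤) →ₐ[Γ(T.left, ⊤)] Γ((G ⊗ P).left, ⊤) :=
    { pb (snd G P) with
      commutes' := fun r => by
        change pb (snd G P) (algebraMap _ _ r) = pb (snd G P ≫ p) r
        rw [hP, ← pb_comp] }
  refine ⟨eqv act pr (ρ.mat (fst G P)), fun v => Iff.rfl, ?_⟩
  intro Q s _ _ _ hQ
  let f : eqv act pr (ρ.mat (fst G P)) →ₗ[Γ(T.left, ⊤)] (Fin n → Γ(Q.left, ⊤)) :=
    { toFun := fun v j => pb s (v.1 j)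
      map_add' := fun v w => funext fun j => map_add _ _ _
      map_smul' := fun r v => funext fun j => by
        change pb s (r • v.1 j) = r • pb s (v.1 j)
        rw [Algebra.smul_def, Algebra.smul_def, map_mul, hP, hQ, ← pb_comp] }
  refine ⟨f, fun _ _ => rfl, ?_⟩
  haveI : Flat (s ≫ p ≫ 𝟙 T).left := by rw [Category.comp_id]; infer_instance
  exact isBaseChange_pt ρ a hc (𝟙 T) s (by rw [Category.comp_id]; exact hP) (by rw [Category.comp_id]; rfl)
    (by rw [Category.comp_id]; exact hQ) (fun _ => rfl) (fun _ => rfl) (fun _ _ => rfl)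

/-- Equivariant vectors lift along equivariant surjections. -/
theorem exists_lift [Flat p.left] [Surjective p.left] (ρ : MatRep G n) (ρ' : MatRep G r)
    (M : ∀ W : Over S, Matrix (Fin r) (Fin n) Γ(W.left, ⊤))
    (hM : ∀ {W W' : Over S} (f : W' ⟶ W), (M W).map (pb f) = M W')
    (hρ : ∀ {W : Over S} (g : W ⟶ G), M W * ρ.mat g = ρ'.mat g * M W)
    (N : Matrix (Fin n) (Fin r) Γ(P.left, ⊤)) (hN : M P * N = 1) {v : Fin r → Γ(P.left, ⊤)}
    (hv : IsEqv a ρ' v) : ∃ u, IsEqv a ρ u ∧ (M P).mulVec u = v := by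
  haveI : IsAffine P.left := isAffine_of_isAffineHom p.left
  letI aP : Algebra Γ(T.left, ⊤) Γ(P.left, ⊤) := (pb p).toAlgebra
  haveI hff : Module.FaithfullyFlat Γ(T.left, ⊤) Γ(P.left, ⊤) :=
    (Flat.flat_and_surjective_iff_faithfullyFlat_of_isAffine (f := p.left)).1 ⟨inferInstance, inferInstance⟩
  haveI : Flat (𝟙 P ≫ p).left := by rw [Category.id_comp]; infer_instance
  obtain ⟨MV, hMV, HV⟩ := exists_bc a hc ρ rfl
  obtain ⟨MQ, hMQ, HQ⟩ := exists_bc a hc ρ' rfl
  obtain ⟨f, hf, hbf⟩ := HV (𝟙 P) (by rw [Category.id_comp]; rfl)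
  obtain ⟨f', hf', hbf'⟩ := HQ (𝟙 P) (by rw [Category.id_comp]; rfl)
  -- the map induced by `M`
  have hmem : ∀ v : MV, (M P).mulVec v.1 ∈ MQ := fun v => by
    rw [hMQ]
    have hv := (hMV _).1 v.2
    change (fun i => pb a.act (((M P).mulVec v.1) i)) = (ρ'.mat (fst G P)).mulVec (fun i => pb (snd G P) (((M P).mulVec v.1) i))
    rw [map_mulVec, map_mulVec, hM, hM, hv, Matrix.mulVec_mulVec, Matrix.mulVec_mulVec, hρ]
  let mu : MV →ₗ[Γ(T.left, ⊤)] MQ :=
    { toFun := fun v => ⟨(M P).mulVec v.1, hmem v⟩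
      map_add' := fun v w => Subtype.ext (by
        change (M P).mulVec (v.1 + w.1) = (M P).mulVec v.1 + (M P).mulVec w.1
        exact Matrix.mulVec_add _ _ _)
      map_smul' := fun r v => Subtype.ext (by
        change (M P).mulVec (r • v.1) = r • (M P).mulVec v.1
        exact Matrix.mulVec_smul _ _ _) }
  have hmuv : ∀ v : MV, (mu v).1 = (M P).mulVec v.1 := fun v => rfl
  have hmu : Function.Surjective mu := by
    refine surjective_of_bc hbf hbf' mu (M P).mulVecLin (fun y => ⟨N.mulVec y, ?_⟩) (fun v => ?_)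
    · rw [Matrix.mulVecLin_apply, Matrix.mulVec_mulVec, hN, Matrix.one_mulVec]
    · have e1 : f v = v.1 := funext fun i => by rw [hf, pb_id]
      have e2 : f' (mu v) = (M P).mulVec v.1 := funext fun i => by rw [hf', pb_id, hmuv]
      rw [e1, e2, Matrix.mulVecLin_apply]
  obtain ⟨u, hu⟩ := hmu ⟨v, (hMQ v).2 hv⟩
  exact ⟨u.1, (hMV _).1 u.2, congrArg Subtype.val hu⟩

end aff

end K831.EqMod
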