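import Groth.Agent.Sga3B.RG.BrHc
import Groth.Agent.Sga3B.RG.UnipRep

/-!
# Multiplicative matrices over a Hopf algebra and normal unipotent subgroups: one step of a flag
-/

set_option autoImplicit false
set_option linter.dupNamespace false
set_option linter.style.haveILetI false

universe u

open Groth.Agent.Sga3B.RG

namespace K831.Flag

variable {K : Type u} [Field K] {A : Type u} [CommRing A] [HopfAlgebra K A] {n : ℕ}

/-- A matrix of functions which is multiplicative on points. -/
structure IsMulMat (M : Matrix (Fin n) (Fin n) A) : Prop where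
  one : M.map (1 : Pt K A).ofConv = 1
  mul : ∀ g h : Pt K A, M.map (g * h).ofConv = M.map g.ofConv * M.map h.ofConv

variable {M : Matrix (Fin n) (Fin n) A}

/-- The representation on points. -/
noncomputable def rep (hM : IsMulMat (K := K) M) : Representation K (Pt K A) (Fin n → K) where
  toFun g := Matrix.toLin' (M.map g.ofConv)
  map_one' := by rw [hM.one]; exact Matrix.toLin'_one
  map_mul' g h := by rw [hM.mul]; exact Matrix.toLin'_mul _ _

theorem rep_apply (hM : IsMulMat (K := K) M) (g : Pt K A) (v : Fin n → K) :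
    rep hM g v = (M.map g.ofConv).mulVec v := Matrix.toLin'_apply _ _

theorem isAlg_rep (hM : IsMulMat (K := K) M) : IsAlg (rep hM) := by
  intro f v
  refine ⟨∑ i, ∑ j, (f (Pi.single i 1) * v j) • M i j, fun g => ?_⟩
  rw [rep_apply]
  have h1 : (M.map g.ofConv).mulVec v = ∑ i, ((M.map g.ofConv).mulVec v i) • (Pi.single i (1 : K) : Fin n → K) := by
    funext i
    rw [Finset.sum_apply, Finset.sum_eq_single i]
    · rw [Pi.smul_apply, Pi.single_eq_same, smul_eq_mul, mul_one]
    · intro j _ hj
      rw [Pi.smul_apply, Pi.single_eq_of_ne (Ne.symm hj), smul_zero]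
    · intro h
      exact absurd (Finset.mem_univ i) h
  have h2 : (g : A → K) = g.ofConv := rfl
  rw [h1, map_sum, h2, map_sum]
  refine Finset.sum_congr rfl fun i _ => ?_
  rw [map_smul, map_sum, Matrix.mulVec, dotProduct, smul_eq_mul, Finset.sum_mul]
  refine Finset.sum_congr rfl fun j _ => ?_
  rw [Matrix.map_apply, map_smul, smul_eq_mul]
  ring

theorem exists_ab (W : Submodule K (Fin n → K)) (hW : W ≠ ⊥) :
    ∃ r < n, ∃ (a : Matrix (Fin r) (Fin n) K) (b : Matrix (Fin n) (Fin r) K), a * b = 1 ∧
      ∀ v, a.mulVec v = 0 ↔ v ∈ W := by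
  let V := Fin n → K
  have h1 : Module.finrank K (V ⧸ W) + Module.finrank K W = n := by
    rw [Submodule.finrank_quotient_add_finrank, Module.finrank_fin_fun]
  have h2 : 0 < Module.finrank K W := by
    rw [Nat.pos_iff_ne_zero]
    intro h0
    exact hW (Submodule.finrank_eq_zero.1 h0)
  let e : (V ⧸ W) ≃ₗ[K] (Fin (Module.finrank K (V ⧸ W)) → K) := (Module.finBasis K (V ⧸ W)).equivFun
  let fa : V →ₗ[K] (Fin (Module.finrank K (V ⧸ W)) → K) := e.toLinearMap ∘ₗ W.mkQ
  have hfa : LinearMap.range fa = ⊤ := by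
    rw [LinearMap.range_eq_top]
    exact e.surjective.comp W.mkQ_surjective
  obtain ⟨fb, hfb⟩ := fa.exists_rightInverse_of_surjective hfa
  refine ⟨Module.finrank K (V ⧸ W), by omega, LinearMap.toMatrix' fa, LinearMap.toMatrix' fb, ?_, fun v => ?_⟩
  · rw [← LinearMap.toMatrix'_comp, hfb, LinearMap.toMatrix'_id]
  · rw [LinearMap.toMatrix'_mulVec]
    change e (W.mkQ v) = 0 ↔ _
    rw [LinearEquiv.map_eq_zero_iff, Submodule.mkQ_apply, Submodule.Quotient.mk_eq_zero]

variable [IsAlgClosed K] [Algebra.FiniteType K A] [IsReduced A]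

theorem exists_flag (hM : IsMulMat (K := K) M) (hn : 0 < n) {N : Subgroup (Pt K A)} (hN : N.Normal)
    (hu : ∀ g ∈ N, IsUnip g) :
    ∃ r < n, ∃ (a : Matrix (Fin r) (Fin n) K) (b : Matrix (Fin n) (Fin r) K), a * b = 1 ∧
      a.map (algebraMap K A) * M * (1 - b * a).map (algebraMap K A) = 0 ∧
      ∀ i j, (M * (1 - b * a).map (algebraMap K A) - (1 - b * a).map (algebraMap K A)) i j ∈
        vanIdeal (N : Set (Pt K A)) := by
  haveI : Nonempty (Fin n) := ⟨⟨0, hn⟩⟩
  obtain ⟨v, -, hv0, hv⟩ := exists_fixed_of_isUnip (isAlg_rep hM) hu ⊤ (fun _ _ => le_top) top_ne_bot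
  have hst : IsStable (rep hM) (fixedSpace (rep hM) (N : Set (Pt K A))) := fun g w hw =>
    fixedSpace_le_comap (rep hM) (fun n hn => by simpa using hN.conj_mem n hn g⁻¹) hw
  obtain ⟨r, hr, a, b, hab, hW⟩ := exists_ab (fixedSpace (rep hM) (N : Set (Pt K A))) (fun h0 =>
    hv0 ((Submodule.mem_bot K).1 (h0 ▸ (show v ∈ fixedSpace (rep hM) (N : Set (Pt K A)) from hv))))
  have hcol : ∀ x, (1 - b * a).mulVec x ∈ fixedSpace (rep hM) (N : Set (Pt K A)) := fun x => by
    rw [← hW, Matrix.mulVec_mulVec, Matrix.mul_sub, Matrix.mul_one, ← Matrix.mul_assoc, hab, Matrix.one_mul, sub_self,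
      Matrix.zero_mulVec]
  have hmap : ∀ {p q : ℕ} (X : Matrix (Fin p) (Fin q) K) (g : Pt K A), (X.map (algebraMap K A)).map g.ofConv = X := by
    intro p q X g
    ext i j
    exact g.ofConv.commutes _
  refine ⟨r, hr, a, b, hab, ?_, ?_⟩
  · ext i j
    apply Groth.Agent.Books.PointsAC.eq_zero_of_forall_point K
    intro g
    have h1 : (a.map (algebraMap K A) * M * (1 - b * a).map (algebraMap K A)).map g =
        a * M.map g * (1 - b * a) := by
      rw [Matrix.map_mul, Matrix.map_mul]
      have := hmap a (WithConv.toConv g)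
      have h2 := hmap (1 - b * a) (WithConv.toConv g)
      rw [WithConv.ofConv_toConv] at this h2
      rw [this, h2]
    have h3 : a * M.map g * (1 - b * a) = 0 := by
      apply Matrix.ext_of_mulVec_single
      intro i
      rw [← Matrix.mulVec_mulVec, ← Matrix.mulVec_mulVec, Matrix.zero_mulVec, hW]
      have := hst (WithConv.toConv g) _ (hcol (Pi.single i 1))
      rw [rep_apply] at this
      exact this
    have h4 := congrFun (congrFun (h1.trans h3) i) j
    exact h4
  · intro i j g hg
    have h1 : (M * (1 - b * a).map (algebraMap K A) - (1 - b * a).map (algebraMap K A)).map g.ofConv =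
        M.map g.ofConv * (1 - b * a) - (1 - b * a) := by
      rw [Matrix.map_sub _ (map_sub g.ofConv), Matrix.map_mul, hmap (1 - b * a) g]
    have h3 : M.map g.ofConv * (1 - b * a) - (1 - b * a) = 0 := by
      rw [sub_eq_zero]
      apply Matrix.ext_of_mulVec_single
      intro i
      rw [← Matrix.mulVec_mulVec]
      have := hcol (Pi.single i 1) g hg
      rw [rep_apply] at this
      exact this
    have h4 := congrFun (congrFun (h1.trans h3) i) j
    exact h4

end K831.Flag
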