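import Groth.Agent.ThetaS.K831.GaFun

/-!
# Extensions of the `𝔾_a`-torsor give functions
-/

set_option autoImplicit false
set_option backward.isDefEq.respectTransparency false
set_option backward.isDefEq.respectTransparency.types false
set_option linter.dupNamespace false
set_option linter.style.haveILetI false

universe u

open CategoryTheory CategoryTheory.Limits MonoidalCategory CartesianMonoidalCategory MonObj GrpObj AlgebraicGeometry
open FibCat K943.FibBase K943.CoverExt K943.QuotAtlas K943.QuotCover K943.QuotOpen K831.TwoCov K831.GaSec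
open ThetaS K951.Pts K942.Coord K943.Points

namespace K831.GaEval

open K831.GaFun Groth.Agent.Sga3B.GaPts

attribute [local instance] K951.Pts.algΓ

variable {R : Type u} [CommRing R] {π : R} {S : Scheme.{u}} {h : Spec (CommRingCat.of R) ⟶ S}

theorem aux {D : Type*} [Category D] {T T' A A' B Z : D} {p' : T' ⟶ A'} {p : T ⟶ A} {F : T' ⟶ T} {δ : A' ⟶ A}
    (e : F ≫ p = p' ≫ δ) (v : A ⟶ B) (m : B ⟶ Z) : p' ≫ (δ ≫ v) ≫ m = F ≫ p ≫ v ≫ m := by
  rw [Category.assoc, ← Category.assoc, ← e, Category.assoc]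

/-- The objects landing in one of the charts. -/
noncomputable abbrev SS (π : R) (h : Spec (CommRingCat.of R) ⟶ S) := sub (sub (ST Scheme.fppfPrecoverage R π h)
  (InU _ (stAction R π) (Us π ⊔ Ut π))) (InOne h (Us π) (Ut π) Scheme.fppfPrecoverage (stAction R π))

theorem exists_fn (d : ST Scheme.fppfPrecoverage R π h ⥤ᵇ AlgSt.BG Scheme.fppfPrecoverage (Red.Ga S))
    (θ : F' π h ⟶ BasedFunctor.comp (subI _ _) (BasedFunctor.comp (subI _ _) d)) :
    ∃ a : ∀ (x : (SS π h).obj) (_ : x.obj.obj ⟶ u0 Scheme.fppfPrecoverage (stAction R π)),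
        Γ(x.obj.obj.base.left, ⊤),
      ∀ (x x' : (SS π h).obj) (w : x' ⟶ x) (v : x.obj.obj ⟶ u0 Scheme.fppfPrecoverage (stAction R π)),
        a x' (w.hom.hom ≫ v) = gg w.hom.hom + w.hom.hom.base.left.appTop (a x v) := by
  let B := d.obj (u0 Scheme.fppfPrecoverage (stAction R π))
  have hB : B.base = (Over.map h).obj (STSch R π) := d.w_obj (u0 Scheme.fppfPrecoverage (stAction R π))
  haveI : IsAffine B.base.left := by
    rw [hB]; exact isAffine_st π
  obtain ⟨s, hs⟩ := exists_section B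
  obtain ⟨m₀, -⟩ := exists_toTr B s hs
  have ex : ∀ (x : (SS π h).obj) (v : x.obj.obj ⟶ u0 Scheme.fppfPrecoverage (stAction R π)),
      ∃ g : (Over.map h).obj x.obj.obj.base ⟶ Red.Ga S,
        θ.toNatTrans.app x ≫ d.map v ≫ m₀ = trMap (θ.toNatTrans.app x ≫ d.map v ≫ m₀).base g :=
    fun x v => exists_trMap _
  choose g hg using ex
  refine ⟨fun x v => Red.gaFn (X := (Over.map h).obj x.obj.obj.base) (g x v), fun x x' w v => ?_⟩
  have e1 : θ.toNatTrans.app x' ≫ d.map (w.hom.hom ≫ v) ≫ m₀ =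
      (F' π h).map w ≫ θ.toNatTrans.app x ≫ d.map v ≫ m₀ := by
    have hn : (F' π h).map w ≫ θ.toNatTrans.app x = θ.toNatTrans.app x' ≫ d.map w.hom.hom :=
      θ.toNatTrans.naturality w
    have hc : d.map (w.hom.hom ≫ v) = d.map w.hom.hom ≫ d.map v := d.toFunctor.map_comp _ _
    rw [hc]
    exact aux hn _ _
  have e2 : (F' π h).map w = trMap ((Over.map h).map w.hom.hom.base) (gaPt _ (gg w.hom.hom)) := rfl
  have e3 : trMap (θ.toNatTrans.app x' ≫ d.map (w.hom.hom ≫ v) ≫ m₀).base (g x' (w.hom.hom ≫ v)) =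
      trMap (K := Scheme.fppfPrecoverage) ((Over.map h).map w.hom.hom.base ≫ (θ.toNatTrans.app x ≫ d.map v ≫ m₀).base)
        (gaPt ((Over.map h).obj x'.obj.obj.base) (gg w.hom.hom) * ((Over.map h).map w.hom.hom.base ≫ g x v)) := by
    rw [← trMap_comp, ← hg, ← hg, ← e2, e1]
  have e4 := congrArg Red.gaFn (trMap_injective e3)
  rw [gaFn_mul] at e4
  have e5 := gaFn_gaPt (S := S) ((Over.map h).obj x'.obj.obj.base) (gg w.hom.hom)
  have e6 := gaFn_comp ((Over.map h).map w.hom.hom.base) (g x v)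
  exact e4.trans (congrArg₂ (· + ·) e5 e6)

end K831.GaEval
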