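import Groth.Agent.ThetaS.K831.GTrans
import Groth.Agent.ThetaS.K831.GaEval
import Groth.Agent.ThetaS.K942.TorsGeom

/-!
# Extensions of functors on the punctured stack give torsors over the atlas with sections over test objects
-/

set_option autoImplicit false
set_option backward.isDefEq.respectTransparency false
set_option backward.isDefEq.respectTransparency.types false
set_option linter.dupNamespace false
set_option linter.style.haveILetI false

universe u

open CategoryTheory CategoryTheory.Limits MonoidalCategory CartesianMonoidalCategory MonObj GrpObj AlgebraicGeometry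
open FibCat K943.FibBase K943.CoverExt K943.QuotAtlas K943.QuotTriv K943.QuotCover K943.QuotOpen K831.TwoCov K831.GaSec
open ThetaS K951.Pts K942.Coord K943.Points

namespace K831.GSecs

open K831.GaFun K831.GTrans

section val

variable {S : Scheme.{u}} {G : Over S} [GrpObj G] {K : Precoverage Scheme.{u}} [K.HasIsos]
  {B : AlgSt.QuotObj K G (AlgSt.trivAction G)}

/-- The value of a morphism out of a trivial torsor at the identity section. -/
noncomputable def val {Y : Over S} (m : tr K G Y ⟶ B) : Y ⟶ B.P := lift (1 : Y ⟶ G) (𝟙 Y) ≫ m.top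

theorem val_π {Y : Over S} (m : tr K G Y ⟶ B) : val m ≫ B.π = m.base := by
  have h : m.top ≫ B.π = snd G Y ≫ m.base := m.cart.w
  rw [val, Category.assoc, h, lift_snd_assoc, Category.id_comp]

theorem val_trMap {Y Z : Over S} (f : Y ⟶ Z) (g : Y ⟶ G) (m : tr K G Z ⟶ B) :
    val (trMap f g ≫ m) = sm B.act g (f ≫ val m) := by
  have h1 : (AlgSt.leftMul G Z).act ≫ m.top = (G ◁ m.top) ≫ B.act.act := m.eqv
  have h2 : sm B.act g (f ≫ val m) = sm (AlgSt.leftMul G Z) g (f ≫ lift (1 : Z ⟶ G) (𝟙 Z)) ≫ m.top := by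
    rw [sm_eqv h1, Category.assoc]; rfl
  rw [h2, sm_leftMul]
  change lift (1 : Y ⟶ G) (𝟙 Y) ≫ (rt g ≫ (G ◁ f)) ≫ m.top = _
  rw [← Category.assoc]
  congr 1
  apply CartesianMonoidalCategory.hom_ext
  · rw [Category.assoc, top_fst, comp_mul, lift_fst, lift_snd_assoc, Category.id_comp, _root_.one_mul, lift_fst,
      Category.assoc, lift_fst, comp_one, _root_.mul_one]
  · rw [Category.assoc, top_snd, lift_snd_assoc, Category.id_comp, lift_snd, Category.assoc, lift_snd, Category.comp_id]

end val

variable {R : Type u} [CommRing R] {π : R} {K' : Type u} [Field K'] [Algebra R K'] [IsLocalization.Away π K']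
  {S : Scheme.{u}} {h : Spec (CommRingCat.of R) ⟶ S} {G : Over S} [GrpObj G]
  {w : (Over.map h).obj (CoactBr.sp R K') ⟶ G}

theorem isPullback_comp_iso {C : Type*} [Category C] {X Y Z W W' : C} {f : X ⟶ Y} {g : X ⟶ Z}
    {a : Y ⟶ W} {b : Z ⟶ W} (i : W ⟶ W') [Mono i] (H : IsPullback f g a b) :
    IsPullback f g (a ≫ i) (b ≫ i) :=
  ⟨⟨by rw [← Category.assoc, H.w, Category.assoc]⟩, ⟨PullbackCone.IsLimit.mk _
    (fun s => H.lift s.fst s.snd (by rw [← cancel_mono i]; simpa using s.condition)) (fun s => H.lift_fst _ _ _)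
      (fun s => H.lift_snd _ _ _) (fun s m h1 h2 => H.hom_ext (by rw [h1, H.lift_fst]) (by rw [h2, H.lift_snd]))⟩⟩

theorem exists_sec [Flat G.hom] [IsAffineHom G.hom]
    (d : ST Scheme.fppfPrecoverage R π h ⥤ᵇ AlgSt.BG Scheme.fppfPrecoverage G)
    (θ : GTrans.F' π h w ⟶ BasedFunctor.comp (subI _ _) (BasedFunctor.comp (subI _ _) d)) :
    ∃ (P : Over S) (act : AlgGrp.Action G P) (p : P ⟶ (Over.map h).obj (STSch R π)),
      IsPullback act.act (snd G P) p p ∧ Flat p.left ∧ Surjective p.left ∧ IsAffineHom p.left ∧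
      ∃ σ : ∀ (x : (GaEval.SS π h).obj) (_ : x.obj.obj ⟶ u0 Scheme.fppfPrecoverage (stAction R π)),
          (Over.map h).obj x.obj.obj.base ⟶ P,
        (∀ x v, σ x v ≫ p = (Over.map h).map v.base) ∧
        ∀ (x x' : (GaEval.SS π h).obj) (n : x' ⟶ x) (v : x.obj.obj ⟶ u0 Scheme.fppfPrecoverage (stAction R π)),
          σ x' (n.hom.hom ≫ v) = sm act (gg h w n.hom.hom) ((Over.map h).map n.hom.hom.base ≫ σ x v) := by
  let B := d.obj (u0 Scheme.fppfPrecoverage (stAction R π))
  have hB : B.base = (Over.map h).obj (STSch R π) := d.w_obj (u0 Scheme.fppfPrecoverage (stAction R π))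
  haveI h1 : Flat B.π.left := K942.TorsGeom.flat_π B.act B.cart B.loc
  haveI h2 : Surjective B.π.left := K942.TorsGeom.surjective_π B.loc
  haveI h3 : IsAffineHom B.π.left := K750.QuotAff.isAffineHom_quotObj Scheme.fppfPrecoverage_le_fpqcPrecoverage B
  haveI h4 : IsIso (eqToHom hB).left := by
    change IsIso ((Over.forget S).map (eqToHom hB)); infer_instance
  refine ⟨B.P, B.act, B.π ≫ eqToHom hB, isPullback_comp_iso (eqToHom hB) B.cart, ?_, ?_, ?_,
    fun x v => val (θ.toNatTrans.app x ≫ d.map v), fun x v => ?_, fun x x' n v => ?_⟩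
  · rw [Over.comp_left]; infer_instance
  · rw [Over.comp_left]; infer_instance
  · rw [Over.comp_left]; infer_instance
  · rw [← Category.assoc, val_π]
    haveI i1 : (AlgSt.BG Scheme.fppfPrecoverage G).p.IsHomLift
      (𝟙 ((Over.map h).obj x.obj.obj.base)) (θ.toNatTrans.app x) := θ.isHomLift' x
    haveI i2 : (ST Scheme.fppfPrecoverage R π h).p.IsHomLift ((Over.map h).map v.base) v :=
      IsHomLift.map (ST Scheme.fppfPrecoverage R π h).p v
    haveI i3 : (AlgSt.BG Scheme.fppfPrecoverage G).p.IsHomLift ((Over.map h).map v.base) (d.map v) :=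
      BasedFunctor.preserves_isHomLift d _ _
    haveI i4 : (AlgSt.BG Scheme.fppfPrecoverage G).p.IsHomLift ((Over.map h).map v.base)
      (θ.toNatTrans.app x ≫ d.map v) :=
      IsHomLift.comp_lift_id_left (p := (AlgSt.BG Scheme.fppfPrecoverage G).p) ((Over.map h).map v.base)
        (d.map v) (θ.toNatTrans.app x)
    have e1 := IsHomLift.fac' (AlgSt.BG Scheme.fppfPrecoverage G).p
      ((Over.map h).map v.base) (θ.toNatTrans.app x ≫ d.map v)
    have e2 : (θ.toNatTrans.app x ≫ d.map v).base = (Over.map h).map v.base ≫ eqToHom hB.symm :=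
      e1.trans (Category.id_comp _)
    change (θ.toNatTrans.app x ≫ d.map v).base ≫ eqToHom hB = _
    rw [e2, Category.assoc, eqToHom_trans, eqToHom_refl, Category.comp_id]
  · have hn : (GTrans.F' π h w).map n ≫ θ.toNatTrans.app x = θ.toNatTrans.app x' ≫ d.map n.hom.hom :=
      θ.toNatTrans.naturality n
    have hc : d.map (n.hom.hom ≫ v) = d.map n.hom.hom ≫ d.map v := d.toFunctor.map_comp _ _
    have e1 : θ.toNatTrans.app x' ≫ d.map (n.hom.hom ≫ v) =
        (GTrans.F' π h w).map n ≫ θ.toNatTrans.app x ≫ d.map v := by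
      rw [hc, ← Category.assoc, ← hn, Category.assoc]
    exact (congrArg val e1).trans (val_trMap _ _ _)

end K831.GSecs
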