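import Groth.Agent.ThetaS.K831.GaFun

/-!
# The `G`-torsor on the punctured two-branched stack given by a point of `G` over the fraction field
-/

set_option autoImplicit false
set_option backward.isDefEq.respectTransparency false
set_option backward.isDefEq.respectTransparency.types false
set_option linter.dupNamespace false
set_option linter.style.haveILetI false

universe u

open CategoryTheory CategoryTheory.Limits MonoidalCategory CartesianMonoidalCategory MonObj GrpObj AlgebraicGeometry
open FibCat K943.FibBase K943.CoverExt K943.QuotAtlas K943.QuotCover K943.QuotOpen K831.TwoCov K831.GaSec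
open ThetaS K951.Pts K942.Coord K943.Points

namespace K831.GTrans

open K831.GaFun

attribute [local instance] K951.Pts.algΓ

variable {R : Type u} [CommRing R] {π : R} {K' : Type u} [Field K'] [Algebra R K'] [IsLocalization.Away π K']

section toK

variable (π K')

/-- The algebra map from `R[1/π]` to the functions where `π` is invertible. -/
noncomputable def liftK (Y : Over (Spec (CommRingCat.of R))) (hY : IsUnit (fnS Y.hom π)) : K' →ₐ[R] Γ(Y.left, ⊤) where
  __ := IsLocalization.Away.lift (S := K') π (g := algebraMap R Γ(Y.left, ⊤)) hY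
  commutes' r := IsLocalization.Away.lift_eq π _ r

/-- The morphism to `Spec R[1/π]`. -/
noncomputable def toK (Y : Over (Spec (CommRingCat.of R))) (hY : IsUnit (fnS Y.hom π)) : Y ⟶ CoactBr.sp R K' :=
  ofFn (liftK π K' Y hY)

end toK

include π in
theorem toK_ext {Y : Over (Spec (CommRingCat.of R))} (f g : Y ⟶ CoactBr.sp R K') : f = g := by
  apply fn_injective
  apply AlgHom.coe_ringHom_injective
  apply IsLocalization.ringHom_ext (Submonoid.powers π)
  rw [AlgHom.comp_algebraMap, AlgHom.comp_algebraMap]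

variable {S : Scheme.{u}} (h : Spec (CommRingCat.of R) ⟶ S) {G : Over S} [GrpObj G]
  (w : (Over.map h).obj (CoactBr.sp R K') ⟶ G)

open Classical in
variable (π) in
/-- The point over the locus where `π` is invertible. -/
noncomputable def tt (Y : Over (Spec (CommRingCat.of R))) : (Over.map h).obj Y ⟶ G :=
  if hY : IsUnit (fnS Y.hom π) then (Over.map h).map (toK π K' Y hY) ≫ w else 1

theorem tt_of {Y : Over (Spec (CommRingCat.of R))} (hY : IsUnit (fnS Y.hom π)) (f : Y ⟶ CoactBr.sp R K') :
    tt π h w Y = (Over.map h).map f ≫ w := by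
  rw [tt, dif_pos hY, toK_ext (π := π) f]

theorem isUnit_of_hom {Y Z : Over (Spec (CommRingCat.of R))} (f : Y ⟶ Z) (hZ : IsUnit (fnS Z.hom π)) :
    IsUnit (fnS Y.hom π) := by
  have h1 : fnS Y.hom π = f.left.appTop (fnS Z.hom π) := by
    rw [← Over.w f]; exact fnS_comp_apply _ _ _
  rw [h1]
  exact hZ.map f.left.appTop.hom

theorem comp_tt {Y Z : Over (Spec (CommRingCat.of R))} (f : Y ⟶ Z) (hZ : IsUnit (fnS Z.hom π)) :
    (Over.map h).map f ≫ tt π h w Z = tt π h w Y := by
  rw [tt_of h w hZ (toK π K' Z hZ), tt_of h w (isUnit_of_hom f hZ) (f ≫ toK π K' Z hZ),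
    CategoryTheory.Functor.map_comp, Category.assoc]

open Classical in
/-- The transition element of an arrow. -/
noncomputable def gg {a b : AlgSt.QuotObj Scheme.fppfPrecoverage (Gm R) (stAction R π)} (_m : a ⟶ b) :
    (Over.map h).obj a.base ⟶ G :=
  if InU _ _ (Us π) a ∧ ¬ InU _ _ (Us π) b then tt π h w a.base else 1

theorem gg_pos {a b : AlgSt.QuotObj Scheme.fppfPrecoverage (Gm R) (stAction R π)} (m : a ⟶ b)
    (h1 : InU _ _ (Us π) a) (h2 : ¬ InU _ _ (Us π) b) : gg h w m = tt π h w a.base := if_pos ⟨h1, h2⟩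

theorem gg_neg {a b : AlgSt.QuotObj Scheme.fppfPrecoverage (Gm R) (stAction R π)} (m : a ⟶ b)
    (h1 : ¬ (InU _ _ (Us π) a ∧ ¬ InU _ _ (Us π) b)) : gg h w m = 1 := if_neg h1

theorem gg_comp {a b c : AlgSt.QuotObj Scheme.fppfPrecoverage (Gm R) (stAction R π)} (m : a ⟶ b) (m' : b ⟶ c)
    (hc : InU _ _ (Us π) c ∨ InU _ _ (Ut π) c) :
    gg h w (m ≫ m') = gg h w m * ((Over.map h).map m.base ≫ gg h w m') := by
  have hcl : ∀ {x y : AlgSt.QuotObj Scheme.fppfPrecoverage (Gm R) (stAction R π)} (_ : x ⟶ y)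
      (_ : InU _ _ (Us π) y), InU _ _ (Us π) x := fun m h =>
    closedInto_inU (K := Scheme.fppfPrecoverage) (𝟙 _) (Us π) m h
  have hcl' : ∀ {x y : AlgSt.QuotObj Scheme.fppfPrecoverage (Gm R) (stAction R π)} (_ : x ⟶ y)
      (_ : InU _ _ (Ut π) y), InU _ _ (Ut π) x := fun m h =>
    closedInto_inU (K := Scheme.fppfPrecoverage) (𝟙 _) (Ut π) m h
  by_cases h1 : InU _ _ (Us π) c
  · rw [gg_neg h w (m ≫ m') fun t => t.2 h1, gg_neg h w m fun t => t.2 (hcl m' h1), gg_neg h w m' fun t => t.2 h1,
      comp_one, _root_.one_mul]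
  · have h2 : InU _ _ (Ut π) c := hc.resolve_left h1
    by_cases hb : InU _ _ (Us π) b
    · rw [gg_pos h w (m ≫ m') (hcl m hb) h1, gg_neg h w m fun t => t.2 hb, gg_pos h w m' hb h1, _root_.one_mul,
        comp_tt h w m.base (isUnit_base hb (hcl' m' h2))]
    · rw [gg_neg h w m' fun t => hb t.1, comp_one, _root_.mul_one]
      by_cases ha : InU _ _ (Us π) a
      · rw [gg_pos h w (m ≫ m') ha h1, gg_pos h w m ha hb]
      · rw [gg_neg h w (m ≫ m') fun t => ha t.1, gg_neg h w m fun t => ha t.1]

theorem gg_id (a : AlgSt.QuotObj Scheme.fppfPrecoverage (Gm R) (stAction R π)) : gg h w (𝟙 a) = 1 :=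
  gg_neg h w _ fun t => t.2 t.1

variable (π) in
/-- The functor on the objects landing in one of the charts. -/
noncomputable def F' : sub (sub (ST Scheme.fppfPrecoverage R π h) (InU _ (stAction R π) (Us π ⊔ Ut π)))
      (InOne h (Us π) (Ut π) Scheme.fppfPrecoverage (stAction R π)) ⥤ᵇ
    AlgSt.BG Scheme.fppfPrecoverage G where
  toFunctor :=
    { obj := fun a => tr _ _ ((Over.map h).obj a.obj.obj.base)
      map := fun {a b} m => trMap ((Over.map h).map m.hom.hom.base) (gg h w m.hom.hom)
      map_id := fun a => by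
        have e1 : (Over.map h).map (𝟙 a.obj.obj.base) = 𝟙 _ := CategoryTheory.Functor.map_id _ _
        have e2 : gg h w (𝟙 a.obj.obj) = 1 := gg_id h w _
        change trMap ((Over.map h).map (𝟙 a.obj.obj.base)) (gg h w (𝟙 a.obj.obj)) = 𝟙 _
        rw [e1, e2]; exact trMap_one _
      map_comp := fun {a b c} m m' => by
        have e1 : (Over.map h).map (m.hom.hom.base ≫ m'.hom.hom.base) =
          (Over.map h).map m.hom.hom.base ≫ (Over.map h).map m'.hom.hom.base := CategoryTheory.Functor.map_comp _ _ _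
        have e2 := gg_comp h w m.hom.hom m'.hom.hom c.property
        change trMap ((Over.map h).map (m.hom.hom.base ≫ m'.hom.hom.base)) (gg h w (m.hom.hom ≫ m'.hom.hom)) = _
        rw [e1, e2]; exact (trMap_comp _ _ _ _).symm }
  w := rfl

variable (π) in
/-- The functor on the punctured stack. -/
theorem exists_fun [IsNoetherianRing R] [IsAffineHom G.hom] :
    ∃ F : sub (ST Scheme.fppfPrecoverage R π h) (InU _ (stAction R π) (Us π ⊔ Ut π)) ⥤ᵇ
      AlgSt.BG Scheme.fppfPrecoverage G, Nonempty (BasedFunctor.comp (subI _ _) F ≅ F' π h w) := by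
  haveI := isFibGrpd_sub (ℬ := ST Scheme.fppfPrecoverage R π h)
      (closedInto_inU (K := Scheme.fppfPrecoverage) (aX := stAction R π) h (Us π ⊔ Ut π))
  have hst : Stk.IsStack (QuotSh.J Scheme.fppfPrecoverage S) (AlgSt.BG Scheme.fppfPrecoverage G) :=
    K750.QuotEff.isStack_quotSt Scheme.fppfPrecoverage_le_fpqcPrecoverage _
  haveI := hst.1
  haveI : Flat (Gm R).hom := K942.AffMain.flat_Gm
  exact exists_ext (closedInto_inOne h (Us π) (Ut π) Scheme.fppfPrecoverage)
    (fun b => hst.2 _ (cov_mem h (stable_Us π) (stable_Ut π) b)) (F' π h w)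

end K831.GTrans
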