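import Groth.Agent.AlgSt.K744.TorsProp
import Groth.Agent.AlgSt.K750.TorsPts
import Groth.Agent.SGA1.K151.GmGa
import Groth.Agent.ThetaS.K943.QuotTriv

/-!
# Objects of quotient stacks by the additive group over affine bases have sections; arrows of trivial torsors

* `exists_section` : an fppf `𝔾_a`-torsor (object of a quotient stack) over an affine base has a section;
* `tr Y`, `trMap h g` : trivial torsors (objects of `BG`) and their morphisms; `trMap_comp`, `trMap_one`,
  `trMap_injective`, `exists_trMap`, `exists_toTr`.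
-/

set_option autoImplicit false
set_option backward.isDefEq.respectTransparency false
set_option backward.isDefEq.respectTransparency.types false
set_option linter.dupNamespace false
set_option linter.style.haveILetI false

universe u

open CategoryTheory CategoryTheory.Limits MonoidalCategory CartesianMonoidalCategory MonObj GrpObj AlgebraicGeometry
open TensorProduct AlgSt

namespace K831.GaSec

section sec

theorem grp {Γ : Type*} [Group Γ] (a b : Γ) : a⁻¹ = (b * a)⁻¹ * b := by group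

variable {S : Scheme.{u}}

open K750.TorsPts K151.GmGa in
/-- The affine core. -/
theorem core {R B : Type u} [CommRing R] [CommRing B] [Algebra R B] [Module.FaithfullyFlat R B]
    {P T : Over S} (a : AlgGrp.Action (Red.Ga S) P) (π : P ⟶ T) (hc : IsPullback a.act (snd (Red.Ga S) P) π π)
    (v : Spec (CommRingCat.of R) ⟶ S) (w : Spec (CommRingCat.of R) ⟶ T.left) (x : sp v B ⟶ P)
    (hx : x.left ≫ π.left = Spec.map (CommRingCat.ofHom (algebraMap R B)) ≫ w) :
    ∃ s₀ : Spec (CommRingCat.of R) ⟶ P.left, s₀ ≫ π.left = w := by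
  -- points over an `R`-algebra
  have key : ∀ {C : Type u} [CommRing C] [Algebra R C] (φ ψ : B →ₐ[R] C),
      (spMap v φ ≫ x) ≫ π = (spMap v ψ ≫ x) ≫ π := by
    intro C _ _ φ ψ
    apply Over.OverMorphism.ext
    change ((spMap v φ).left ≫ x.left) ≫ π.left = ((spMap v ψ).left ≫ x.left) ≫ π.left
    rw [Category.assoc, Category.assoc, hx, spMap_left, spMap_left, ← Category.assoc, ← Category.assoc, ← Spec.map_comp,
      ← Spec.map_comp, ← CommRingCat.ofHom_comp, ← CommRingCat.ofHom_comp, φ.comp_algebraMap, ψ.comp_algebraMap]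
  let f : sp v (B ⊗[R] B) ⟶ Red.Ga S :=
    dif a hc (spMap v Algebra.TensorProduct.includeLeft ≫ x)
      (spMap v Algebra.TensorProduct.includeRight ≫ x) (key _ _)
  have hf : act a f (spMap v Algebra.TensorProduct.includeLeft ≫ x) =
      spMap v Algebra.TensorProduct.includeRight ≫ x := act_dif a hc _ _ _
  have hf' : ∀ (φ : B ⊗[R] B →ₐ[R] B ⊗[R] (B ⊗[R] B)), act a (spMap v φ ≫ f)
      (spMap v (φ.comp Algebra.TensorProduct.includeLeft) ≫ x) =
      spMap v (φ.comp Algebra.TensorProduct.includeRight) ≫ x := by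
    intro φ
    have h := congrArg (fun t => spMap v φ ≫ t) hf
    simp only [comp_act, spMap_comp_assoc] at h
    exact h
  let u : B ⊗[R] B := nf v (Red.gaFn f)
  have e1 : (K151.Amitsur.p12 R B).comp Algebra.TensorProduct.includeRight =
      (K151.Amitsur.p23 R B).comp Algebra.TensorProduct.includeLeft := by ext; simp
  have e2 : (K151.Amitsur.p23 R B).comp Algebra.TensorProduct.includeRight =
      (K151.Amitsur.p13 R B).comp Algebra.TensorProduct.includeRight := by ext; simp
  have e3 : (K151.Amitsur.p12 R B).comp Algebra.TensorProduct.includeLeft =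
      (K151.Amitsur.p13 R B).comp Algebra.TensorProduct.includeLeft := by ext; simp
  have hcoc : (spMap v (K151.Amitsur.p23 R B) ≫ f) * (spMap v (K151.Amitsur.p12 R B) ≫ f) =
      spMap v (K151.Amitsur.p13 R B) ≫ f := by
    apply act_left_cancel a hc (spMap v ((K151.Amitsur.p13 R B).comp Algebra.TensorProduct.includeLeft) ≫ x)
    rw [act_mul, ← e3, hf', e1, hf', e2, e3, hf']
  have hu : K151.Amitsur.p12 R B u + K151.Amitsur.p23 R B u = K151.Amitsur.p13 R B u := by
    have h := congrArg (fun g => nf v (Red.gaFn g)) hcoc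
    simp only [Groth.Agent.Sga3B.GaPts.gaFn_mul, Groth.Agent.Sga3B.GaPts.gaFn_comp, nf_add,
      nf_appTop] at h
    rw [add_comm]
    exact h
  obtain ⟨b, hb⟩ := K151.Amitsur.exists_of_add u hu
  let g : sp v B ⟶ Red.Ga S := Groth.Agent.Sga3B.GaPts.gaPt _ (fn v b)
  let y : sp v B ⟶ P := act a g⁻¹ x
  have hg : (spMap v (Algebra.TensorProduct.includeRight : B →ₐ[R] B ⊗[R] B) ≫ g) =
      f * (spMap v (Algebra.TensorProduct.includeLeft : B →ₐ[R] B ⊗[R] B) ≫ g) := by
    apply Groth.Agent.Sga3B.GaPts.gaFn_injective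
    apply nf_injective
    rw [Groth.Agent.Sga3B.GaPts.gaFn_mul, Groth.Agent.Sga3B.GaPts.gaFn_comp,
      Groth.Agent.Sga3B.GaPts.gaFn_comp, Groth.Agent.Sga3B.GaPts.gaFn_gaPt, nf_add, nf_appTop,
      nf_appTop, nf_fn]
    change _ = u + _
    rw [← hb]
    simp
  have hy : spMap v (Algebra.TensorProduct.includeLeft : B →ₐ[R] B ⊗[R] B) ≫ y =
      spMap v (Algebra.TensorProduct.includeRight : B →ₐ[R] B ⊗[R] B) ≫ y := by
    change _ ≫ act a g⁻¹ x = _ ≫ act a g⁻¹ x
    rw [comp_act, comp_act, ← hf, ← act_mul, comp_inv, comp_inv, hg]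
    congr 1
    exact grp _ _
  have hy' := congrArg (fun t => t.left) hy
  let t := Spec.map (CommRingCat.ofHom (algebraMap R B))
  have hP : IsPullback (spMap v (Algebra.TensorProduct.includeLeft : B →ₐ[R] B ⊗[R] B)).left
      (spMap v (Algebra.TensorProduct.includeRight : B →ₐ[R] B ⊗[R] B)).left t t :=
    isPullback_SpecMap_of_isPushout _ _ _ _ (CommRingCat.isPushout_tensorProduct R B B)
  have hdesc : ∀ {Z : Scheme.{u}} (g₁ g₂ : Z ⟶ (sp v B).left), g₁ ≫ t = g₂ ≫ t →
      g₁ ≫ y.left = g₂ ≫ y.left := by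
    intro Z g₁ g₂ h
    have := congrArg (fun m => hP.lift g₁ g₂ h ≫ m) hy'
    simpa using this
  have hyπ : y ≫ π = x ≫ π := act_comp_π a hc _ _
  have hyπ' : y.left ≫ π.left = t ≫ w := by
    rw [← hx]; exact congrArg (fun t => t.left) hyπ
  haveI : QuasiCompact t := inferInstance
  haveI : Surjective t := surjective_spec
  haveI : Flat t := flat_spec
  refine ⟨EffectiveEpi.desc t y.left hdesc, ?_⟩
  have hs₀ : t ≫ EffectiveEpi.desc t y.left hdesc = y.left := EffectiveEpi.fac _ _ _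
  rw [← cancel_epi t, ← Category.assoc, hs₀, hyπ']

variable {X : Over S} {aX : AlgGrp.Action (Red.Ga S) X}

open K151.GmGa in
/-- A torsor under the additive group over an affine scheme has a section. -/
theorem exists_section (A : QuotObj Scheme.fppfPrecoverage (Red.Ga S) aX) [IsAffine A.base.left] :
    ∃ s : A.base ⟶ A.P, s ≫ A.π = 𝟙 _ := by
  haveI : IsAffineHom (Red.Ga S).hom := isAffineHom_ga
  haveI : Smooth (Red.Ga S).hom := Groth.Agent.RedSub.H635.GaSm.smooth_ga
  haveI := K744.TorsProp.isAffineHom_of_torsor A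
  haveI := K744.TorsProp.flat_of_torsor A
  haveI := K744.TorsProp.surjective_of_torsor A
  haveI : IsAffine A.P.left := isAffine_of_isAffineHom A.π.left
  letI : Algebra Γ(A.base.left, ⊤) Γ(A.P.left, ⊤) := (A.π.left.appTop.hom).toAlgebra
  have hφ : Spec.map (CommRingCat.ofHom (algebraMap Γ(A.base.left, ⊤) Γ(A.P.left, ⊤))) =
      A.P.left.isoSpec.inv ≫ A.π.left ≫ A.base.left.isoSpec.hom := by
    have h := Scheme.isoSpec_hom_naturality A.π.left
    rw [Iso.eq_inv_comp]
    exact h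
  have h1 : Flat (Spec.map (CommRingCat.ofHom (algebraMap Γ(A.base.left, ⊤) Γ(A.P.left, ⊤)))) := by
    rw [hφ]; infer_instance
  have h2 : Surjective (Spec.map (CommRingCat.ofHom (algebraMap Γ(A.base.left, ⊤) Γ(A.P.left, ⊤)))) := by
    rw [hφ]; infer_instance
  haveI h3 : Module.FaithfullyFlat Γ(A.base.left, ⊤) Γ(A.P.left, ⊤) :=
    (flat_and_surjective_SpecMap_iff _).mp ⟨h1, h2⟩
  obtain ⟨s₀, hs₁⟩ := core (R := Γ(A.base.left, ⊤)) (B := Γ(A.P.left, ⊤)) A.act A.π A.cart
    (A.base.left.isoSpec.inv ≫ A.base.hom) A.base.left.isoSpec.inv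
    (Over.homMk A.P.left.isoSpec.inv (by
      change A.P.left.isoSpec.inv ≫ A.P.hom = Spec.map _ ≫ A.base.left.isoSpec.inv ≫ A.base.hom
      rw [hφ]
      simp only [Category.assoc, Iso.hom_inv_id_assoc]
      rw [Over.w])) (by
      refine Eq.trans ?_ (congrArg (fun t => t ≫ A.base.left.isoSpec.inv) hφ.symm)
      simp only [Category.assoc, Iso.hom_inv_id, Category.comp_id]
      rfl)
  have hs₂ : (A.base.left.isoSpec.hom ≫ s₀) ≫ A.π.left = 𝟙 _ := by
    rw [Category.assoc, hs₁, Iso.hom_inv_id]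
  refine ⟨Over.homMk (A.base.left.isoSpec.hom ≫ s₀) ?_, ?_⟩
  · rw [← Over.w A.π, ← Category.assoc, hs₂, Category.id_comp]
  · apply Over.OverMorphism.ext
    exact hs₂

end sec

section triv

variable {S : Scheme.{u}} {G : Over S} [GrpObj G] {K : Precoverage Scheme.{u}} [K.HasIsos]

open K943.QuotAtlas K943.QuotTriv

/-- The trivial torsor over `Y`, as an object of `BG`. -/
noncomputable abbrev tr (K : Precoverage Scheme.{u}) [K.HasIsos] (G : Over S) [GrpObj G] (Y : Over S) :
    QuotObj K G (trivAction G) := uObj K (trivAction G) Y (toUnit Y)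

/-- The morphism of trivial torsors over `h` given by `g : Y ⟶ G` (right translation). -/
noncomputable def trMap {Y Z : Over S} (h : Y ⟶ Z) (g : Y ⟶ G) : tr K G Y ⟶ tr K G Z :=
  uMapG h g (toUnit_unique _ _)

theorem trMap_base {Y Z : Over S} (h : Y ⟶ Z) (g : Y ⟶ G) : (trMap (K := K) h g).base = h := rfl

theorem trMap_top {Y Z : Over S} (h : Y ⟶ Z) (g : Y ⟶ G) : (trMap (K := K) h g).top = rt g ≫ (G ◁ h) := rfl

theorem trMap_comp {Y Z W : Over S} (h : Y ⟶ Z) (g : Y ⟶ G) (h' : Z ⟶ W) (g' : Z ⟶ G) :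
    trMap (K := K) h g ≫ trMap h' g' = trMap (h ≫ h') (g * (h ≫ g')) := by
  apply QuotObj.hom_ext
  · rfl
  · change (rt g ≫ (G ◁ h)) ≫ (rt g' ≫ (G ◁ h')) = rt (g * (h ≫ g')) ≫ (G ◁ (h ≫ h'))
    apply CartesianMonoidalCategory.hom_ext
    · rw [top_fst, Category.assoc, top_fst, comp_mul, top_fst, ← Category.assoc, top_snd, Category.assoc, comp_mul,
        _root_.mul_assoc]
    · rw [top_snd, Category.assoc, top_snd, ← Category.assoc, top_snd, Category.assoc]

theorem trMap_one (Y : Over S) : trMap (K := K) (𝟙 Y) (1 : Y ⟶ G) = 𝟙 _ := by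
  apply QuotObj.hom_ext
  · rfl
  · change rt (1 : Y ⟶ G) ≫ (G ◁ 𝟙 Y) = 𝟙 _
    apply CartesianMonoidalCategory.hom_ext
    · rw [top_fst, comp_one, _root_.mul_one, Category.id_comp]
    · rw [top_snd, Category.comp_id, Category.id_comp]

theorem trMap_sec {Y Z : Over S} (h : Y ⟶ Z) (g : Y ⟶ G) :
    lift (1 : Y ⟶ G) (𝟙 Y) ≫ (rt g ≫ (G ◁ h)) ≫ fst G Z = g := by
  rw [top_fst, comp_mul, lift_fst, lift_snd_assoc, Category.id_comp, _root_.one_mul]

theorem trMap_injective {Y Z : Over S} {h h' : Y ⟶ Z} {g g' : Y ⟶ G}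
    (e : trMap (K := K) h g = trMap h' g') : g = g' := by
  have e1 : rt g ≫ (G ◁ h) = rt g' ≫ (G ◁ h') := congrArg (fun t => t.top) e
  rw [← trMap_sec h g, e1, trMap_sec]

theorem exists_trMap {Y Z : Over S} (m : tr K G Y ⟶ tr K G Z) : ∃ g : Y ⟶ G, m = trMap m.base g := by
  have hs : lift (1 : Y ⟶ G) (𝟙 Y) ≫ (tr K G Y).π = 𝟙 _ := lift_snd _ _
  refine ⟨lift (1 : Y ⟶ G) (𝟙 Y) ≫ m.top ≫ fst G Z, ?_⟩
  refine K750.TorsPts.hom_ext_of_section _ hs ?_
  change lift (1 : Y ⟶ G) (𝟙 Y) ≫ m.top = lift (1 : Y ⟶ G) (𝟙 Y) ≫ rt _ ≫ (G ◁ m.base)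
  apply CartesianMonoidalCategory.hom_ext
  · have h1 := trMap_sec m.base (lift (1 : Y ⟶ G) (𝟙 Y) ≫ m.top ≫ fst G Z)
    rw [Category.assoc, Category.assoc]
    exact h1.symm
  · rw [Category.assoc, Category.assoc, top_snd, lift_snd_assoc]
    have h2 : m.top ≫ snd G Z = snd G Y ≫ m.base := m.cart.w
    rw [h2, lift_snd_assoc]

/-- An object with a section maps to the trivial one over its base. -/
theorem exists_toTr (A : QuotObj K G (trivAction G)) (s : A.base ⟶ A.P) (hs : s ≫ A.π = 𝟙 _) :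
    ∃ m : A ⟶ tr K G A.base, m.base = 𝟙 _ := by
  obtain ⟨h, h1, -⟩ := K750.TorsPts.exists_hom_of_section (A := A) (B := tr K G A.base) (𝟙 A.base) s hs
    (lift (1 : A.base ⟶ G) (𝟙 _)) (lift_snd _ _) (toUnit_unique _ _)
  exact ⟨h, h1⟩

end triv

end K831.GaSec
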