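import Groth.Agent.ThetaS.K831.TwoCov
import Groth.Agent.ThetaS.K831.GaSec
import Groth.Agent.ThetaS.K943.Points
import Groth.Agent.ThetaS.K942.AffMain
import Groth.Agent.AlgSt.K750.QuotEff

/-!
# The `𝔾_a`-torsor on the punctured two-branched stack given by `1/π`
-/

set_option autoImplicit false
set_option backward.isDefEq.respectTransparency false
set_option backward.isDefEq.respectTransparency.types false
set_option linter.dupNamespace false
set_option linter.style.haveILetI false

universe u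

open CategoryTheory CategoryTheory.Limits MonoidalCategory CartesianMonoidalCategory MonObj GrpObj AlgebraicGeometry
open FibCat K943.FibBase K943.CoverExt K943.QuotAtlas K943.QuotCover K943.QuotOpen K831.TwoCov K831.GaSec
open ThetaS K951.Pts K942.Coord K943.Points

namespace K831.GaFun

attribute [local instance] K951.Pts.algΓ

variable {R : Type u} [CommRing R] (π : R)

/-- The locus where `s` is invertible. -/
noncomputable def Us : (STSch R π).left.Opens := (STSch R π).left.basicOpen (stFn (sFn R π))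

/-- The locus where `t` is invertible. -/
noncomputable def Ut : (STSch R π).left.Opens := (STSch R π).left.basicOpen (stFn (tFn R π))

theorem Us_sup_Ut : Us π ⊔ Ut π = Ust π := rfl

theorem preimage_Us {T : Over (Spec (CommRingCat.of R))} (p : T ⟶ STSch R π) :
    p.left ⁻¹ᵁ (Us π) = T.left.basicOpen (fn (B := STRing R π) p (sFn R π)) :=
  preimage_basicOpen_top p.left (stFn (sFn R π))

theorem preimage_Ut {T : Over (Spec (CommRingCat.of R))} (p : T ⟶ STSch R π) :
    p.left ⁻¹ᵁ (Ut π) = T.left.basicOpen (fn (B := STRing R π) p (tFn R π)) :=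
  preimage_basicOpen_top p.left (stFn (tFn R π))

theorem stable_Us : Stable (stAction R π) (Us π) := by
  change (stAction R π).act.left ⁻¹ᵁ _ = (snd (Gm R) (STSch R π)).left ⁻¹ᵁ _
  rw [preimage_Us, preimage_Us]
  have h := fn_stAct (fst (Gm R) (STSch R π)) (snd (Gm R) (STSch R π))
  rw [lift_fst_snd, Category.id_comp] at h
  rw [h.1, basicOpen_unit_mul (isUnit_z _ _)]

theorem stable_Ut : Stable (stAction R π) (Ut π) := by
  change (stAction R π).act.left ⁻¹ᵁ _ = (snd (Gm R) (STSch R π)).left ⁻¹ᵁ _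
  rw [preimage_Ut, preimage_Ut]
  have h := fn_stAct (fst (Gm R) (STSch R π)) (snd (Gm R) (STSch R π))
  rw [lift_fst_snd, Category.id_comp] at h
  rw [h.2, basicOpen_unit_mul (isUnit_z _ _)]

theorem isUnit_of_top {X : Scheme.{u}} {a : Γ(X, ⊤)} (h : X.basicOpen a = ⊤) : IsUnit a :=
  RingedSpace.isUnit_of_isUnit_germ (X := X.toRingedSpace) ⊤ _ fun x hx =>
    (X.mem_basicOpen _ x hx).1 (h.ge hx)

variable {π}

/-- `π` is invertible on the base of an object landing in both charts. -/
theorem isUnit_base {b : AlgSt.QuotObj Scheme.fppfPrecoverage (Gm R) (stAction R π)}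
    (h1 : InU _ _ (Us π) b) (h2 : InU _ _ (Ut π) b) : IsUnit (fnS b.base.hom π) := by
  have e1 : IsUnit (fn (B := STRing R π) b.φ (sFn R π)) := by
    apply isUnit_of_top
    rw [← preimage_Us]; exact h1
  have e2 : IsUnit (fn (B := STRing R π) b.φ (tFn R π)) := by
    apply isUnit_of_top
    rw [← preimage_Ut]; exact h2
  have e3 : IsUnit (fnS b.P.hom π) := by
    have := e1.mul e2
    rw [← map_mul, sFn_mul_tFn, AlgHom.commutes] at this
    exact this
  have e4 : fnS b.P.hom π = b.π.left.appTop (fnS b.base.hom π) := by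
    rw [← Over.w b.π]; exact fnS_comp_apply _ _ _
  haveI := K744.TorsProp.surjective_of_torsor b
  apply isUnit_of_top
  rw [eq_top_iff]
  intro x _
  obtain ⟨p, rfl⟩ := b.π.left.surjective x
  have e5 : b.π.left ⁻¹ᵁ (b.base.left.basicOpen (fnS b.base.hom π)) = ⊤ := by
    rw [preimage_basicOpen_top, ← e4, Scheme.basicOpen_of_isUnit _ e3]
  have : p ∈ b.π.left ⁻¹ᵁ (b.base.left.basicOpen (fnS b.base.hom π)) := by rw [e5]; trivial
  exact this

theorem map_inverse {A B : Type*} [CommRing A] [CommRing B] (f : A →+* B) {a : A} (ha : IsUnit a) :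
    f (Ring.inverse a) = Ring.inverse (f a) := by
  obtain ⟨u, rfl⟩ := ha
  rw [Ring.inverse_unit]
  exact (Ring.inverse_unit (Units.map (f : A →* B) u)).symm

theorem appTop_inv {Y Z : Over (Spec (CommRingCat.of R))} (f : Y ⟶ Z) (hZ : IsUnit (fnS Z.hom π)) :
    f.left.appTop (Ring.inverse (fnS Z.hom π)) = Ring.inverse (fnS Y.hom π) := by
  have h1 : fnS Y.hom π = f.left.appTop (fnS Z.hom π) := by
    rw [← Over.w f]; exact fnS_comp_apply _ _ _
  rw [h1]
  exact map_inverse f.left.appTop.hom hZ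

open Classical in
/-- The transition function of an arrow. -/
noncomputable def gg {a b : AlgSt.QuotObj Scheme.fppfPrecoverage (Gm R) (stAction R π)} (_m : a ⟶ b) :
    Γ(a.base.left, ⊤) :=
  if InU _ _ (Us π) a ∧ ¬ InU _ _ (Us π) b then Ring.inverse (fnS a.base.hom π) else 0

theorem gg_pos {a b : AlgSt.QuotObj Scheme.fppfPrecoverage (Gm R) (stAction R π)} (m : a ⟶ b)
    (h : InU _ _ (Us π) a) (h' : ¬ InU _ _ (Us π) b) : gg m = Ring.inverse (fnS a.base.hom π) := if_pos ⟨h, h'⟩

theorem gg_neg {a b : AlgSt.QuotObj Scheme.fppfPrecoverage (Gm R) (stAction R π)} (m : a ⟶ b)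
    (h : ¬ (InU _ _ (Us π) a ∧ ¬ InU _ _ (Us π) b)) : gg m = 0 := if_neg h

theorem gg_comp {a b c : AlgSt.QuotObj Scheme.fppfPrecoverage (Gm R) (stAction R π)} (m : a ⟶ b) (m' : b ⟶ c)
    (hc : InU _ _ (Us π) c ∨ InU _ _ (Ut π) c) :
    gg (m ≫ m') = gg m + m.base.left.appTop (gg m') := by
  have hcl : ∀ {x y : AlgSt.QuotObj Scheme.fppfPrecoverage (Gm R) (stAction R π)} (_ : x ⟶ y)
      (_ : InU _ _ (Us π) y), InU _ _ (Us π) x := fun m h =>
    closedInto_inU (K := Scheme.fppfPrecoverage) (𝟙 _) (Us π) m h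
  have hcl' : ∀ {x y : AlgSt.QuotObj Scheme.fppfPrecoverage (Gm R) (stAction R π)} (_ : x ⟶ y)
      (_ : InU _ _ (Ut π) y), InU _ _ (Ut π) x := fun m h =>
    closedInto_inU (K := Scheme.fppfPrecoverage) (𝟙 _) (Ut π) m h
  by_cases h : InU _ _ (Us π) c
  · rw [gg_neg _ fun t => t.2 h, gg_neg _ fun t => t.2 (hcl m' h), gg_neg _ fun t => t.2 h, map_zero, add_zero]
  · have h2 : InU _ _ (Ut π) c := hc.resolve_left h
    by_cases hb : InU _ _ (Us π) b
    · rw [gg_pos _ (hcl m hb) h, gg_neg _ fun t => t.2 hb, gg_pos _ hb h, zero_add,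
        appTop_inv m.base (isUnit_base hb (hcl' m' h2))]
    · rw [gg_neg m' fun t => hb t.1, map_zero, add_zero]
      by_cases ha : InU _ _ (Us π) a
      · rw [gg_pos _ ha h, gg_pos _ ha hb]
      · rw [gg_neg _ fun t => ha t.1, gg_neg _ fun t => ha t.1]

theorem gg_id (a : AlgSt.QuotObj Scheme.fppfPrecoverage (Gm R) (stAction R π)) : gg (𝟙 a) = 0 :=
  gg_neg _ fun t => t.2 t.1

open Groth.Agent.Sga3B.GaPts

variable {S : Scheme.{u}} (h : Spec (CommRingCat.of R) ⟶ S)

variable (π) in
/-- The functor on the objects landing in one of the charts. -/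
noncomputable def F' : sub (sub (ST Scheme.fppfPrecoverage R π h) (InU _ (stAction R π) (Us π ⊔ Ut π)))
      (InOne h (Us π) (Ut π) Scheme.fppfPrecoverage (stAction R π)) ⥤ᵇ
    AlgSt.BG Scheme.fppfPrecoverage (Red.Ga S) where
  toFunctor :=
    { obj := fun a => tr _ _ ((Over.map h).obj a.obj.obj.base)
      map := fun {a b} m => trMap ((Over.map h).map m.hom.hom.base) (gaPt _ (gg m.hom.hom))
      map_id := fun a => by
        have e1 : (Over.map h).map (𝟙 a.obj.obj.base) = 𝟙 _ := CategoryTheory.Functor.map_id _ _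
        have e2 : gaPt ((Over.map h).obj a.obj.obj.base) (gg (𝟙 a.obj.obj)) = 1 := by
          apply gaFn_injective
          rw [gaFn_gaPt, gaFn_one]; exact gg_id _
        change trMap ((Over.map h).map (𝟙 a.obj.obj.base)) (gaPt _ (gg (𝟙 a.obj.obj))) = 𝟙 _
        rw [e1, e2]; exact trMap_one _
      map_comp := fun {a b c} m m' => by
        have e1 : (Over.map h).map (m.hom.hom.base ≫ m'.hom.hom.base) =
          (Over.map h).map m.hom.hom.base ≫ (Over.map h).map m'.hom.hom.base := CategoryTheory.Functor.map_comp _ _ _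
        have e2 : gaPt ((Over.map h).obj a.obj.obj.base) (gg (m.hom.hom ≫ m'.hom.hom)) =
            gaPt ((Over.map h).obj a.obj.obj.base) (gg m.hom.hom) *
              ((Over.map h).map m.hom.hom.base ≫ gaPt ((Over.map h).obj b.obj.obj.base) (gg m'.hom.hom)) := by
          apply gaFn_injective
          rw [gaFn_mul, gaFn_gaPt, gaFn_gaPt, gaFn_comp, gaFn_gaPt]
          exact gg_comp _ _ c.property
        change trMap ((Over.map h).map (m.hom.hom.base ≫ m'.hom.hom.base)) (gaPt _ (gg (m.hom.hom ≫ m'.hom.hom))) = _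
        rw [e1, e2]; exact (trMap_comp _ _ _ _).symm }
  w := rfl

instance lfp_Gm [IsNoetherianRing R] : LocallyOfFinitePresentation (Gm R).hom := by
  change LocallyOfFinitePresentation (Spec.map (CommRingCat.ofHom (algebraMap R (Lau R))))
  rw [HasRingHomProperty.Spec_iff (P := @LocallyOfFinitePresentation)]
  have : Algebra.FinitePresentation R (Lau R) :=
    Algebra.FinitePresentation.of_finiteType.1 (MonoidAlgebra.finiteType_of_fg (M := Multiplicative ℤ))
  exact RingHom.finitePresentation_algebraMap.2 this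

variable (π) in
/-- The functor on the punctured stack. -/
theorem exists_fun [IsNoetherianRing R] : ∃ F : sub (ST Scheme.fppfPrecoverage R π h) (InU _ (stAction R π) (Us π ⊔ Ut π)) ⥤ᵇ
      AlgSt.BG Scheme.fppfPrecoverage (Red.Ga S), Nonempty (BasedFunctor.comp (subI _ _) F ≅ F' π h) := by
  haveI := isFibGrpd_sub (ℬ := ST Scheme.fppfPrecoverage R π h)
      (closedInto_inU (K := Scheme.fppfPrecoverage) (aX := stAction R π) h (Us π ⊔ Ut π))
  haveI : IsAffineHom (Red.Ga S).hom := K151.GmGa.isAffineHom_ga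
  have hst : Stk.IsStack (QuotSh.J Scheme.fppfPrecoverage S) (AlgSt.BG Scheme.fppfPrecoverage (Red.Ga S)) :=
    K750.QuotEff.isStack_quotSt Scheme.fppfPrecoverage_le_fpqcPrecoverage _
  haveI := hst.1
  haveI : Flat (Gm R).hom := K942.AffMain.flat_Gm
  exact exists_ext (closedInto_inOne h (Us π) (Ut π) Scheme.fppfPrecoverage)
    (fun b => hst.2 _ (cov_mem h (stable_Us π) (stable_Ut π) b)) (F' π h)

end K831.GaFun
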