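import Groth.Agent.ThetaS.K943.Points

/-!
# Laurent polynomial test rings for the two-branched curve
-/

set_option autoImplicit false
set_option linter.dupNamespace false

universe u

open ThetaS

namespace K831.GaRing

section rings

variable {R : Type u} [CommRing R] {K' : Type u} [Field K'] [Algebra R K']

/-- `z ↦ c z^e`. -/
noncomputable def chi (c : K'ˣ) (e : ℤ) : Multiplicative ℤ →* Lau K' where
  toFun m := MonoidAlgebra.single (m ^ e) ((c ^ Multiplicative.toAdd m : K'ˣ) : K')
  map_one' := by
    rw [one_zpow, toAdd_one, zpow_zero, Units.val_one]; rfl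
  map_mul' m n := by
    rw [MonoidAlgebra.single_mul_single, mul_zpow, toAdd_mul, zpow_add, Units.val_mul]

theorem chi_apply (c : K'ˣ) (e : ℤ) (m : Multiplicative ℤ) :
    chi c e m = MonoidAlgebra.single (m ^ e) ((c ^ Multiplicative.toAdd m : K'ˣ) : K') := rfl

variable (R) in
/-- The algebra map `z ↦ c z^e`. -/
noncomputable def psi (c : K'ˣ) (e : ℤ) : Lau R →ₐ[R] Lau K' := MonoidAlgebra.lift R (Lau K') (Multiplicative ℤ) (chi c e)

theorem psi_single (c : K'ˣ) (e : ℤ) (m : Multiplicative ℤ) (r : R) :
    psi R c e (MonoidAlgebra.single m r) = r • chi c e m := MonoidAlgebra.lift_single _ _ _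

theorem psi_coeff (c : K'ˣ) {e : ℤ} (he : e ≠ 0) (α : Lau R) :
    (psi R c e α).coeff 1 = algebraMap R K' (α.coeff 1) := by
  induction α using MonoidAlgebra.induction_linear with
  | zero => rw [map_zero, MonoidAlgebra.coeff_zero, MonoidAlgebra.coeff_zero, Finsupp.zero_apply, Finsupp.zero_apply, map_zero]
  | add f g hf hg =>
    rw [map_add, MonoidAlgebra.coeff_add, MonoidAlgebra.coeff_add, Finsupp.add_apply, Finsupp.add_apply, hf, hg, map_add]
  | single m r =>
    rw [psi_single, chi_apply, MonoidAlgebra.smul_single, MonoidAlgebra.coeff_single, MonoidAlgebra.coeff_single]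
    by_cases hm : m = 1
    · subst hm
      rw [one_zpow, Finsupp.single_eq_same, Finsupp.single_eq_same, toAdd_one,
        zpow_zero, Units.val_one, Algebra.smul_def, mul_one]
    · have hm' : m ^ e ≠ 1 := by
        intro h
        have h1 : e * Multiplicative.toAdd m = 0 := by
          have := congrArg Multiplicative.toAdd h
          rw [toAdd_zpow, toAdd_one, smul_eq_mul] at this
          exact this
        rcases mul_eq_zero.1 h1 with h2 | h2
        · exact he h2
        · exact hm (Multiplicative.toAdd.injective h2)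
      rw [Finsupp.single_eq_of_ne (Ne.symm hm'), Finsupp.single_eq_of_ne (Ne.symm hm), map_zero]

variable (π : R)

theorem zz (π : R) : (zPow R 1 : Lau R) * MonoidAlgebra.single (Multiplicative.ofAdd (-1 : ℤ)) π = algebraMap R (Lau R) π := by
  rw [MonoidAlgebra.single_mul_single, one_mul]; rfl

/-- `(z, π z⁻¹)` -/
noncomputable def phiS : STRing R π →ₐ[R] Lau R :=
  stPt (zPow R 1) (MonoidAlgebra.single (Multiplicative.ofAdd (-1 : ℤ)) π) (zz π)

/-- `(π z⁻¹, z)` -/
noncomputable def phiT : STRing R π →ₐ[R] Lau R :=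
  stPt (MonoidAlgebra.single (Multiplicative.ofAdd (-1 : ℤ)) π) (zPow R 1) ((mul_comm _ _).trans (zz π))

variable {π}

theorem psi_eq (c : K'ˣ) (hc : (c : K') = algebraMap R K' π) :
    (psi R (1 : K'ˣ) 1).comp (phiS π) = (psi R c (-1)).comp (phiT π) := by
  apply stRing_algHom_ext
  · rw [AlgHom.comp_apply, AlgHom.comp_apply, phiS, phiT, stPt_sFn, stPt_sFn, zPow, psi_single, psi_single, chi_apply,
      chi_apply, one_smul, zpow_one, one_zpow, Units.val_one, MonoidAlgebra.smul_single, toAdd_ofAdd, zpow_neg, zpow_neg,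
      zpow_one, zpow_one, Algebra.smul_def, ← hc, ← Units.val_mul, mul_inv_cancel, Units.val_one]
    rfl
  · rw [AlgHom.comp_apply, AlgHom.comp_apply, phiS, phiT, stPt_tFn, stPt_tFn, zPow, psi_single, psi_single, chi_apply,
      chi_apply, one_smul, zpow_one, one_zpow, Units.val_one, MonoidAlgebra.smul_single, toAdd_ofAdd,
      zpow_one, Algebra.smul_def, ← hc, mul_one]
    rfl

theorem isUnit_zPow (n : ℤ) : IsUnit (zPow R n) := by
  refine IsUnit.of_mul_eq_one (zPow R (-n)) ?_
  rw [zPow_mul, add_neg_cancel, zPow_zero]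

theorem isUnit_of_single (m : Multiplicative ℤ) (h : IsUnit (MonoidAlgebra.single m π : Lau R)) : IsUnit π := by
  have := h.map (MonoidAlgebra.lift R R (Multiplicative ℤ) (1 : Multiplicative ℤ →* R))
  rwa [MonoidAlgebra.lift_single, MonoidHom.one_apply, smul_eq_mul, mul_one] at this

end rings

end K831.GaRing
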