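import Groth.Agent.ThetaS.K831.GaEval
import Groth.Agent.ThetaS.K831.GaRing
import Groth.Agent.ThetaS.K943.SelfLift
import Mathlib.RingTheory.PowerSeries.Inverse

/-!
# `B𝔾_a` over a field is not S-complete
-/

set_option autoImplicit false
set_option backward.isDefEq.respectTransparency false
set_option backward.isDefEq.respectTransparency.types false
set_option linter.dupNamespace false
set_option linter.style.haveILetI false

universe u

open CategoryTheory CategoryTheory.Limits MonoidalCategory CartesianMonoidalCategory MonObj GrpObj AlgebraicGeometry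
open FibCat K943.FibBase K943.CoverExt K943.QuotAtlas K943.QuotCover K943.QuotOpen K831.TwoCov K831.GaSec
open ThetaS K951.Pts K942.Coord K943.Points

namespace K831.GaMain

open K831.GaFun K831.GaEval K831.GaRing

attribute [local instance] K951.Pts.algΓ

section objs

variable {R : Type u} [CommRing R] {π : R} {C D : Type u} [CommRing C] [Algebra R C] [CommRing D] [Algebra R D]

variable (R C) in
/-- Functions on an affine scheme. -/
noncomputable def el : C →ₐ[R] Γ((CoactBr.sp R C).left, ⊤) := fn (B := C) (𝟙 (CoactBr.sp R C))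

theorem el_apply (c : C) : el R C c = (Scheme.ΓSpecIso (CommRingCat.of C)).inv c := by
  have h : el R C c = ((Scheme.ΓSpecIso (CommRingCat.of C)).inv ≫ (𝟙 (Spec (CommRingCat.of C)) : _ ⟶ _).appTop) c := rfl
  rw [h, Scheme.Hom.id_appTop, Category.comp_id]

theorem el_bijective : Function.Bijective (el R C) := by
  have h : (el R C : C → _) = (Scheme.ΓSpecIso (CommRingCat.of C)).inv := funext el_apply
  rw [h]; exact ConcreteCategory.bijective_of_isIso _

theorem fn_pt (ψ : D →ₐ[R] C) : fn (B := D) (CoactBr.pt ψ) = (el R C).comp ψ := by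
  rw [el, ← fn_comp_pt, Category.id_comp]

theorem appTop_el (ψ : D →ₐ[R] C) (x : D) : (CoactBr.pt ψ).left.appTop (el R D x) = el R C (ψ x) := by
  have h := fn_comp (CoactBr.pt ψ) (𝟙 (CoactBr.sp R D)) x
  rw [Category.comp_id, fn_pt] at h
  exact h.symm

theorem isUnit_el_iff {x : C} : IsUnit (el R C x) ↔ IsUnit x := by
  constructor
  · intro h
    let e := RingEquiv.ofBijective (el R C).toRingHom el_bijective
    have h2 : IsUnit (e x) := h
    have := h2.map e.symm
    rwa [RingEquiv.symm_apply_apply] at this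
  · exact fun h => h.map _

variable (φ : STRing R π →ₐ[R] C)

theorem inU_s_iff : InU Scheme.fppfPrecoverage (stAction R π) (Us π)
    (uObj _ (stAction R π) (CoactBr.sp R C) (CoactBr.pt φ)) ↔ IsUnit (φ (sFn R π)) := by
  rw [inU_uObj_iff (stable_Us π), preimage_Us, fn_pt]
  constructor
  · intro h
    exact isUnit_el_iff.1 (isUnit_of_top h)
  · intro h
    exact Scheme.basicOpen_of_isUnit _ (isUnit_el_iff.2 h)

theorem inU_t_iff : InU Scheme.fppfPrecoverage (stAction R π) (Ut π)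
    (uObj _ (stAction R π) (CoactBr.sp R C) (CoactBr.pt φ)) ↔ IsUnit (φ (tFn R π)) := by
  rw [inU_uObj_iff (stable_Ut π), preimage_Ut, fn_pt]
  constructor
  · intro h
    exact isUnit_el_iff.1 (isUnit_of_top h)
  · intro h
    exact Scheme.basicOpen_of_isUnit _ (isUnit_el_iff.2 h)

variable {S : Scheme.{u}} {h : Spec (CommRingCat.of R) ⟶ S}

/-- A test object. -/
noncomputable def ob (hφ : IsUnit (φ (sFn R π)) ∨ IsUnit (φ (tFn R π))) : (SS π h).obj :=
  ⟨⟨uObj _ (stAction R π) (CoactBr.sp R C) (CoactBr.pt φ), hφ.elim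
      (fun t => inU_mono le_sup_left ((inU_s_iff φ).2 t)) (fun t => inU_mono le_sup_right ((inU_t_iff φ).2 t))⟩,
    hφ.elim (fun t => Or.inl ((inU_s_iff φ).2 t)) (fun t => Or.inr ((inU_t_iff φ).2 t))⟩

variable {φ} {φ' : STRing R π →ₐ[R] D}

/-- An arrow of test objects. -/
noncomputable def obMap (hφ : IsUnit (φ (sFn R π)) ∨ IsUnit (φ (tFn R π)))
    (hφ' : IsUnit (φ' (sFn R π)) ∨ IsUnit (φ' (tFn R π))) (ψ : C →ₐ[R] D) (e : ψ.comp φ = φ') :
    (ob φ' hφ' : (SS π h).obj) ⟶ ob φ hφ :=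
  ObjectProperty.homMk (ObjectProperty.homMk (uMap (CoactBr.pt ψ) (by rw [← e, CoactBr.pt_comp])))

/-- The arrow to the atlas object. -/
noncomputable def obU (φ : STRing R π →ₐ[R] C) :
    uObj Scheme.fppfPrecoverage (stAction R π) (CoactBr.sp R C) (CoactBr.pt φ) ⟶
      u0 Scheme.fppfPrecoverage (stAction R π) := uMap (CoactBr.pt φ) (Category.comp_id _)

theorem obMap_obU (hφ : IsUnit (φ (sFn R π)) ∨ IsUnit (φ (tFn R π)))
    (hφ' : IsUnit (φ' (sFn R π)) ∨ IsUnit (φ' (tFn R π))) (ψ : C →ₐ[R] D) (e : ψ.comp φ = φ') :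
    (obMap (h := h) hφ hφ' ψ e).hom.hom ≫ obU φ = obU φ' := by
  subst e
  apply AlgSt.QuotObj.hom_ext
  · change CoactBr.pt ψ ≫ CoactBr.pt φ = _
    rw [← CoactBr.pt_comp]; rfl
  · change (Gm R ◁ CoactBr.pt ψ) ≫ (Gm R ◁ CoactBr.pt φ) = _
    rw [← MonoidalCategory.whiskerLeft_comp, ← CoactBr.pt_comp]; rfl

end objs

section main

variable {R : Type u} [CommRing R] [IsDomain R] {π : R} {S : Scheme.{u}} {h : Spec (CommRingCat.of R) ⟶ S}

theorem false_of_ext (hπ0 : π ≠ 0) (hπ : ¬ IsUnit π)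
    (d : ST Scheme.fppfPrecoverage R π h ⥤ᵇ AlgSt.BG Scheme.fppfPrecoverage (Red.Ga S))
    (θ : F' π h ⟶ BasedFunctor.comp (subI _ _) (BasedFunctor.comp (subI _ _) d)) : False := by
  obtain ⟨a, ha⟩ := exists_fn d θ
  let K' := FractionRing R
  have hc0 : algebraMap R K' π ≠ 0 := by
    intro h0
    exact hπ0 (IsFractionRing.injective R K' (h0.trans (map_zero _).symm))
  let c : K'ˣ := Units.mk0 (algebraMap R K' π) hc0
  have hs : IsUnit (phiS π (sFn R π)) ∨ IsUnit (phiS π (tFn R π)) := Or.inl (by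
    rw [phiS, stPt_sFn]; exact GaRing.isUnit_zPow 1)
  have ht : IsUnit (phiT π (sFn R π)) ∨ IsUnit (phiT π (tFn R π)) := Or.inr (by
    rw [phiT, stPt_tFn]; exact GaRing.isUnit_zPow 1)
  have hst1 : IsUnit (((psi R (1 : K'ˣ) 1).comp (phiS π)) (sFn R π)) := by
    rw [AlgHom.comp_apply, phiS, stPt_sFn]; exact (GaRing.isUnit_zPow 1).map _
  have hst : IsUnit (((psi R (1 : K'ˣ) 1).comp (phiS π)) (sFn R π)) ∨
    IsUnit (((psi R (1 : K'ˣ) 1).comp (phiS π)) (tFn R π)) := Or.inl hst1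
  have hts : ¬ IsUnit (phiT π (sFn R π)) := by
    rw [phiT, stPt_sFn]; exact fun t => hπ (isUnit_of_single _ t)
  let ws : (ob _ hst : (SS π h).obj) ⟶ ob _ hs := obMap hs hst (psi R (1 : K'ˣ) 1) rfl
  let wt : (ob _ hst : (SS π h).obj) ⟶ ob _ ht := obMap ht hst (psi R c (-1)) (psi_eq c rfl).symm
  have h1 := ha _ _ ws (obU (phiS π))
  have h2 := ha _ _ wt (obU (phiT π))
  have h3 : ws.hom.hom ≫ obU (phiS π) = wt.hom.hom ≫ obU (phiT π) :=
    (obMap_obU hs hst (psi R (1 : K'ˣ) 1) rfl).trans (obMap_obU ht hst (psi R c (-1)) (psi_eq c rfl).symm).symm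
  have g1 : gg ws.hom.hom = 0 := gg_neg _ fun t => t.2 ((inU_s_iff _).2 (hs.elim id fun _ => by
    rw [phiS, stPt_sFn]; exact GaRing.isUnit_zPow 1))
  have g2 : gg wt.hom.hom = Ring.inverse (fnS (CoactBr.sp R (Lau K')).hom π) :=
    gg_pos _ ((inU_s_iff _).2 hst1) (fun t => hts ((inU_s_iff _).1 t))
  obtain ⟨αs, hαs⟩ := (el_bijective (R := R) (C := Lau R)).2 (a (ob _ hs) (obU (phiS π)))
  obtain ⟨αt, hαt⟩ := (el_bijective (R := R) (C := Lau R)).2 (a (ob _ ht) (obU (phiT π)))
  have k1 : a (ob _ hst) (ws.hom.hom ≫ obU (phiS π)) = el R (Lau K') (psi R (1 : K'ˣ) 1 αs) := by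
    rw [h1, g1, zero_add, ← hαs]
    exact appTop_el (psi R (1 : K'ˣ) 1) αs
  have k2 : a (ob _ hst) (wt.hom.hom ≫ obU (phiT π)) =
      Ring.inverse (fnS (CoactBr.sp R (Lau K')).hom π) + el R (Lau K') (psi R c (-1) αt) := by
    rw [h2, g2, ← hαt]
    exact congrArg (fun t : Γ((CoactBr.sp R (Lau K')).left, ⊤) =>
      Ring.inverse (fnS (CoactBr.sp R (Lau K')).hom π) + t) (appTop_el (psi R c (-1)) αt)
  rw [h3] at k1
  have k3 := k1.symm.trans k2
  -- `π · (1/π) = 1`
  have u1 : fnS (CoactBr.sp R (Lau K')).hom π = el R (Lau K') (algebraMap R (Lau K') π) :=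
    ((el R (Lau K')).commutes π).symm
  have u2 : IsUnit (fnS (CoactBr.sp R (Lau K')).hom π) := by
    rw [u1, isUnit_el_iff]
    have : algebraMap R (Lau K') π = algebraMap K' (Lau K') (algebraMap R K' π) := rfl
    rw [this]
    exact (IsUnit.mk0 _ hc0).map _
  have k4 := congrArg (fun t => fnS (CoactBr.sp R (Lau K')).hom π * t) k3
  simp only [mul_add, Ring.mul_inverse_cancel _ u2] at k4
  rw [u1, ← map_mul, ← map_mul, ← map_one (el R (Lau K')), ← map_add] at k4
  have k5 := congrArg (fun t => (MonoidAlgebra.coeff t) 1) (el_bijective.1 k4)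
  have k6 : ∀ x : Lau K', (algebraMap R (Lau K') π * x).coeff 1 = algebraMap R K' π * x.coeff 1 := by
    intro x
    have : algebraMap R (Lau K') π * x = algebraMap R K' π • x := by
      rw [Algebra.smul_def]; rfl
    rw [this, MonoidAlgebra.coeff_smul, Finsupp.smul_apply, smul_eq_mul]
  simp only [MonoidAlgebra.coeff_add, Finsupp.add_apply] at k5
  rw [k6, k6, psi_coeff _ (by norm_num), psi_coeff _ (by norm_num)] at k5
  have k7 : (MonoidAlgebra.coeff (1 : Lau K')) 1 = 1 := by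
    rw [MonoidAlgebra.one_def, MonoidAlgebra.coeff_single, Finsupp.single_eq_same]
  rw [k7, ← map_mul, ← map_mul, ← map_one (algebraMap R K'), ← map_add] at k5
  have k8 := IsFractionRing.injective R K' k5
  apply hπ
  refine IsUnit.of_mul_eq_one (αs.coeff 1 - αt.coeff 1) ?_
  rw [mul_sub, k8]; ring

theorem not_lifts [IsNoetherianRing R] (hπ0 : π ≠ 0) (hπ : ¬ IsUnit π)
    (H : LiftSq.LiftsUniquely (stIncl Scheme.fppfPrecoverage R π h)
      (toSelf (AlgSt.BG Scheme.fppfPrecoverage (Red.Ga S)))) : False := by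
  have H' : LiftSq.LiftsUniquely (subI (ST Scheme.fppfPrecoverage R π h) MissesNode)
      (toSelf (AlgSt.BG Scheme.fppfPrecoverage (Red.Ga S))) := H
  rw [missesNode_eq] at H'
  obtain ⟨F, ⟨α⟩⟩ := exists_fun π h
  obtain ⟨⟨d⟩, -⟩ := H' ⟨F, toSelf _, eqToIso (K943.SelfLift.functor_eq _ _)⟩
  refine false_of_ext hπ0 hπ d.fn (α.inv ≫ BasedCategory.whiskerLeft (subI _ _) d.isoTop.inv)

end main

theorem main (k : Type u) [Field k] : ¬ IsSCompleteOver Scheme.fppfPrecoverage
    (AlgSt.BG Scheme.fppfPrecoverage (Red.Ga (Spec (CommRingCat.of k)))) := fun H =>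
  not_lifts (R := PowerSeries k) (π := PowerSeries.X)
    (h := Spec.map (CommRingCat.ofHom (algebraMap k (PowerSeries k)))) PowerSeries.X_ne_zero
    PowerSeries.X_prime.not_isUnit (H (PowerSeries k) PowerSeries.X PowerSeries.X_prime.irreducible _)

end K831.GaMain
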