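import Groth.Agent.ThetaS.K831.StStep
import Groth.Agent.ThetaS.K831.Flag

/-!
# Matrix representations of affine groups over an algebraically closed field: the flag of a normal unipotent subgroup
-/

set_option autoImplicit false
set_option backward.isDefEq.respectTransparency false
set_option backward.isDefEq.respectTransparency.types false
set_option linter.dupNamespace false
set_option linter.style.haveILetI false

universe u

open CategoryTheory CategoryTheory.Limits MonoidalCategory CartesianMonoidalCategory MonObj GrpObj AlgebraicGeometry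
open ThetaS K951.Pts K942.EqGeom
open Groth.Agent.Books.AffBridge Groth.Agent.Sga3B.RG

namespace K831.RepInd

open K831.StGlue K831.GaMain K831.Flag

attribute [local instance] K951.Pts.algΓ

variable {k : Type u} [Field k] {A : Type u} [CommRing A] [HopfAlgebra k A]
  {G : Over (Spec (CommRingCat.of k))} [GrpObj G] (e : G ≅ SpecOver k A) {n r : ℕ}

/-- The matrix of the universal point. -/
noncomputable def um (ρ : MatRep G n) : Matrix (Fin n) (Fin n) A := (ρ.mat e.inv).map (elI k A)

/-- Functions on the group at a point. -/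
noncomputable def ev {W : Over (Spec (CommRingCat.of k))} (x : W ⟶ G) : A →+* Γ(W.left, ⊤) :=
  (pb (x ≫ e.hom)).comp (el k A : A →+* Γ((CoactBr.sp k A).left, ⊤))

theorem um_ev (ρ : MatRep G n) {W : Over (Spec (CommRingCat.of k))} (x : W ⟶ G) :
    (um e ρ).map (ev e x) = ρ.mat x := by
  have h1 : x = (x ≫ e.hom) ≫ e.inv := by rw [Category.assoc, e.hom_inv_id, Category.comp_id]
  conv_rhs => rw [h1, ρ.comp]
  rw [um, Matrix.map_map]
  congr 1
  funext y
  change pb (x ≫ e.hom) (el k A (elI k A y)) = pb (x ≫ e.hom) y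
  rw [el_elI]

variable (k) in
/-- The scalars. -/
noncomputable def sc : k →+* Γ(Spec (CommRingCat.of k), ⊤) := (Scheme.ΓSpecIso (CommRingCat.of k)).inv.hom

omit [GrpObj G] in
theorem ev_scalar {W : Over (Spec (CommRingCat.of k))} (x : W ⟶ G) (c : k) :
    ev e x (algebraMap k A c) = cst W (sc k c) := by
  have h1 : el k A (algebraMap k A c) = cst (CoactBr.sp k A) (sc k c) := (el k A).commutes c
  change pb (x ≫ e.hom) (el k A (algebraMap k A c)) = _
  rw [h1]
  exact pb_cst (x ≫ e.hom) _

omit [GrpObj G] in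
theorem ev_map {W : Over (Spec (CommRingCat.of k))} (x : W ⟶ G) {p q : ℕ} (X : Matrix (Fin p) (Fin q) k) :
    (X.map (algebraMap k A)).map (ev e x) = (X.map (sc k)).map (cst W) := by
  rw [Matrix.map_map, Matrix.map_map]
  congr 1
  funext c
  exact ev_scalar e x c

theorem mat_key (ρ : MatRep G n) (a : Matrix (Fin r) (Fin n) k) (b : Matrix (Fin n) (Fin r) k)
    (h : a.map (algebraMap k A) * um e ρ * (1 - b * a).map (algebraMap k A) = 0)
    {W : Over (Spec (CommRingCat.of k))} (x : W ⟶ G) :
    (a.map (sc k)).map (cst W) * ρ.mat x * ((1 - b * a).map (sc k)).map (cst W) = 0 := by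
  rw [← ev_map e x, ← ev_map e x, ← um_ev e, ← Matrix.map_mul, ← Matrix.map_mul, h]
  ext i j
  exact map_zero (ev e x)

/-- The representation on a quotient. -/
noncomputable def quotRep (ρ : MatRep G n) (a : Matrix (Fin r) (Fin n) k) (b : Matrix (Fin n) (Fin r) k)
    (hab : a * b = 1) (h : a.map (algebraMap k A) * um e ρ * (1 - b * a).map (algebraMap k A) = 0) : MatRep G r where
  mat {W} x := (a.map (sc k)).map (cst W) * ρ.mat x * (b.map (sc k)).map (cst W)
  comp {W W'} v w := by
    rw [ρ.comp, Matrix.map_mul, Matrix.map_mul]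
    congr 1
    · congr 1
      ext i j
      exact (pb_cst v _).symm
    · ext i j
      exact (pb_cst v _).symm
  mul {W} w w' := by
    have h1 := mat_key e ρ a b h w
    have h2 : ((1 - b * a).map (sc k)).map (cst W) = 1 - (b.map (sc k)).map (cst W) * (a.map (sc k)).map (cst W) := by
      rw [Matrix.map_sub _ (map_sub (sc k)), Matrix.map_sub _ (map_sub (cst W)), Matrix.map_mul, Matrix.map_mul,
        Matrix.map_one _ (map_zero _) (map_one _), Matrix.map_one _ (map_zero _) (map_one _)]
    rw [h2, Matrix.mul_sub, Matrix.mul_one, sub_eq_zero] at h1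
    rw [ρ.mul]
    simp only [Matrix.mul_assoc] at h1 ⊢
    conv_lhs => rw [← Matrix.mul_assoc (ρ.mat w), ← Matrix.mul_assoc]
    conv_lhs => rw [← Matrix.mul_assoc (Matrix.map _ _), h1]
    simp only [Matrix.mul_assoc]
  one {W} := by
    rw [ρ.one, Matrix.mul_one, ← Matrix.map_mul, ← Matrix.map_mul, hab, Matrix.map_one _ (map_zero _) (map_one _),
      Matrix.map_one _ (map_zero _) (map_one _)]

theorem um_map (ρ : MatRep G n) {C : Type u} [CommRing C] [Algebra k C] (g : A →ₐ[k] C) :
    (um e ρ).map g = (ρ.mat (specMap k g ≫ e.inv)).map (elI k C) := by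
  rw [um, ρ.comp, Matrix.map_map, Matrix.map_map]
  congr 1
  funext y
  exact (elI_app g y).symm

theorem isMulMat_um [IsMonHom e.hom] (ρ : MatRep G n) : IsMulMat (K := k) (um e ρ) where
  one := by
    have h1 : (um e ρ).map (1 : Pt k A).ofConv = (ρ.mat (specMap k (1 : Pt k A).ofConv ≫ e.inv)).map (elI k k) :=
      um_map e ρ _
    rw [h1, specMap_one, MonObj.one_comp, ρ.one, Matrix.map_one _ (map_zero _) (map_one _)]
  mul g h := by
    have h1 : ∀ g : Pt k A, (um e ρ).map g.ofConv = (ρ.mat (specMap k g.ofConv ≫ e.inv)).map (elI k k) :=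
      fun g => um_map e ρ _
    rw [h1, h1, h1, specMap_mul, MonObj.mul_comp, ρ.mul, Matrix.map_mul]

variable {R K' : Type u} [CommRing R] [Field K'] [Algebra R K'] [Algebra k R] [Algebra k K'] [IsScalarTower k R K']

/-- The structure morphism. -/
noncomputable abbrev hh (k R : Type u) [Field k] [CommRing R] [Algebra k R] :
    Spec (CommRingCat.of R) ⟶ Spec (CommRingCat.of k) := Spec.map (CommRingCat.ofHom (algebraMap k R))

/-- A point with values in `K'` over the structure morphism. -/
noncomputable def w0 (R : Type u) [CommRing R] [Algebra R K'] [Algebra k R] [IsScalarTower k R K'] (g : A →ₐ[k] K') :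
    (Over.map (hh k R)).obj (CoactBr.sp R K') ⟶ SpecOver k A :=
  Over.homMk (Spec.map (CommRingCat.ofHom g.toRingHom)) (by
    change Spec.map (CommRingCat.ofHom g.toRingHom) ≫ Spec.map (CommRingCat.ofHom (algebraMap k A)) =
      Spec.map (CommRingCat.ofHom (algebraMap R K')) ≫ Spec.map (CommRingCat.ofHom (algebraMap k R))
    rw [← Spec.map_comp, ← Spec.map_comp, ← CommRingCat.ofHom_comp, ← CommRingCat.ofHom_comp]
    congr 2
    ext c
    exact (g.commutes c).trans (IsScalarTower.algebraMap_apply k R K' c))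

omit [HopfAlgebra k A] in
theorem elI_apply {R C : Type u} [CommRing R] [CommRing C] [Algebra R C] (x : Γ((CoactBr.sp R C).left, ⊤)) :
    elI R C x = (Scheme.ΓSpecIso (CommRingCat.of C)).hom x := by
  apply (el_bijective (R := R) (C := C)).1
  rw [el_elI, el_apply, ← CommRingCat.comp_apply, Iso.hom_inv_id, CommRingCat.id_apply]

theorem spec_app {C D : Type u} [CommRing C] [CommRing D] (φ : C →+* D) (x : Γ(Spec (CommRingCat.of C), ⊤)) :
    (Scheme.ΓSpecIso (CommRingCat.of D)).hom ((Spec.map (CommRingCat.ofHom φ)).appTop x) =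
      φ ((Scheme.ΓSpecIso (CommRingCat.of C)).hom x) := by
  have h := congrArg (fun f => f x) (congrArg (fun t : Γ(Spec (CommRingCat.of C), ⊤) ⟶ CommRingCat.of D => (t : _ → _))
    (Scheme.ΓSpecIso_naturality (CommRingCat.ofHom φ)))
  exact h

theorem elI_w0 (g : A →ₐ[k] K') (x : Γ((SpecOver k A).left, ⊤)) : elI R K' (pb (w0 R g) x) = g (elI k A x) := by
  rw [elI_apply, elI_apply]
  exact spec_app g.toRingHom x

theorem nmat_w0 (ρ : MatRep G n) (g : A →ₐ[k] K') : nmat ρ (w0 R g ≫ e.inv) = (um e ρ).map g := by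
  rw [um, nmat, ρ.comp, Matrix.map_map, Matrix.map_map]
  congr 1
  funext y
  exact elI_w0 g y

omit [Field K'] [Algebra R K'] [Algebra k K'] [IsScalarTower k R K'] in
theorem gam_sc (c : k) : gam (hh k R) (sc k c) = algebraMap k R c := by
  have h1 := spec_app (algebraMap k R) ((Scheme.ΓSpecIso (CommRingCat.of k)).inv c)
  refine h1.trans ?_
  rw [← CommRingCat.comp_apply, Iso.inv_hom_id, CommRingCat.id_apply]

theorem quotRep_comm (ρ : MatRep G n) (a : Matrix (Fin r) (Fin n) k) (b : Matrix (Fin n) (Fin r) k)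
    (hab : a * b = 1) (h : a.map (algebraMap k A) * um e ρ * (1 - b * a).map (algebraMap k A) = 0)
    {W : Over (Spec (CommRingCat.of k))} (x : W ⟶ G) :
    (a.map (sc k)).map (cst W) * ρ.mat x = (quotRep e ρ a b hab h).mat x * (a.map (sc k)).map (cst W) := by
  have h1 := mat_key e ρ a b h x
  have h2 : ((1 - b * a).map (sc k)).map (cst W) = 1 - (b.map (sc k)).map (cst W) * (a.map (sc k)).map (cst W) := by
    rw [Matrix.map_sub _ (map_sub (sc k)), Matrix.map_sub _ (map_sub (cst W)), Matrix.map_mul, Matrix.map_mul,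
      Matrix.map_one _ (map_zero _) (map_one _), Matrix.map_one _ (map_zero _) (map_one _)]
  rw [h2, Matrix.mul_sub, Matrix.mul_one, sub_eq_zero] at h1
  rw [h1]
  change _ = ((a.map (sc k)).map (cst W) * ρ.mat x * (b.map (sc k)).map (cst W)) * (a.map (sc k)).map (cst W)
  simp only [Matrix.mul_assoc]

theorem int_main [IsAlgClosed k] [Algebra.FiniteType k A] [_root_.IsReduced A] [IsMonHom e.hom] {N : Subgroup (Pt k A)}
    (hN : N.Normal) (hu : ∀ g ∈ N, IsUnip g) (g : A →ₐ[k] K') (hg : ∀ x ∈ vanIdeal (N : Set (Pt k A)), g x = 0)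
    (H : StepProp (h := hh k R) (w0 R g ≫ e.inv)) (n : ℕ) :
    ∀ (ρ : MatRep G n), ∃ B : Matrix (Fin n) (Fin n) R, (um e ρ).map g = B.map (algebraMap R K') := by
  induction n using Nat.strong_induction_on with
  | _ n ih =>
    intro ρ
    rcases Nat.eq_zero_or_pos n with h0 | hn
    · subst h0
      exact ⟨0, Subsingleton.elim _ _⟩
    · obtain ⟨r, hr, a, b, hab, h1, h2⟩ := exists_flag (isMulMat_um e ρ) hn hN hu
      obtain ⟨B, hB⟩ := ih r hr (quotRep e ρ a b hab h1)
      have key := H n r ρ (quotRep e ρ a b hab h1) (a.map (sc k)) (b.map (sc k))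
        (by rw [← Matrix.map_mul, hab, Matrix.map_one _ (map_zero _) (map_one _)])
        (fun x => quotRep_comm e ρ a b hab h1 x)
        (by
          have e1 : (1 - b.map (sc k) * a.map (sc k)) = (1 - b * a).map (sc k) := by
            rw [Matrix.map_sub _ (map_sub (sc k)), Matrix.map_mul, Matrix.map_one _ (map_zero _) (map_one _)]
          have e2 : (((1 - b * a).map (sc k)).map (gam (hh k R))).map (algebraMap R K') =
              ((1 - b * a).map (algebraMap k A)).map g := by
            generalize 1 - b * a = E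
            ext i j
            change algebraMap R K' (gam (hh k R) (sc k (E i j))) = g (algebraMap k A (E i j))
            rw [gam_sc, g.commutes, ← IsScalarTower.algebraMap_apply]
          rw [e1, e2, nmat_w0, ← Matrix.map_mul]
          ext i j
          apply sub_eq_zero.1
          have := hg _ (h2 i j)
          rw [Matrix.sub_apply, map_sub] at this
          exact this)
        ⟨B, by rw [nmat_w0]; exact hB⟩
      obtain ⟨B', hB'⟩ := key
      exact ⟨B', by rw [← nmat_w0 (R := R)]; exact hB'⟩

end K831.RepInd
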