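import Groth.Agent.ThetaS.K831.StGlue

/-!
# Extending the torsor over the two-branched stack: functions on the total space
-/

set_option autoImplicit false
set_option backward.isDefEq.respectTransparency false
set_option backward.isDefEq.respectTransparency.types false
set_option linter.dupNamespace false
set_option linter.style.haveILetI false

universe u

open CategoryTheory CategoryTheory.Limits MonoidalCategory CartesianMonoidalCategory MonObj GrpObj AlgebraicGeometry
open FibCat K943.FibBase K943.CoverExt K943.QuotAtlas K943.QuotTriv K943.QuotCover K943.QuotOpen K831.TwoCov K831.GaSec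
open ThetaS K951.Pts K942.Coord K943.Points K942.EqGeom K942.RegPair

namespace K831.StGlue

open K831.GaFun K831.GTrans K831.GaMain K831.GaRing K831.EqMod K831.StLoc

attribute [local instance] K951.Pts.algΓ

variable {R : Type u} [CommRing R] {π : R} {K' : Type u} [Field K'] [Algebra R K'] [IsLocalization.Away π K']
  {S : Scheme.{u}} {h : Spec (CommRingCat.of R) ⟶ S} {G : Over S} [GrpObj G]
  {w : (Over.map h).obj (CoactBr.sp R K') ⟶ G} {n : ℕ}

/-- The base scalars. -/
theorem elI_const {C : Type u} [CommRing C] [Algebra R C] {P : Over S} (s : (Over.map h).obj (CoactBr.sp R C) ⟶ P)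
    (x : Γ(S, ⊤)) : elI R C (pb s (P.hom.appTop x)) =
      algebraMap R C ((Scheme.ΓSpecIso (CommRingCat.of R)).hom (h.appTop x)) := by
  have h1 : pb s (P.hom.appTop x) = ((Over.map h).obj (CoactBr.sp R C)).hom.appTop x := by
    rw [← Over.w s]
    change s.left.appTop (P.hom.appTop x) = (s.left ≫ P.hom).appTop x
    rw [Scheme.Hom.comp_appTop, CommRingCat.comp_apply]
  have h2 : ((Over.map h).obj (CoactBr.sp R C)).hom.appTop x = (CoactBr.sp R C).hom.appTop (h.appTop x) := by
    change ((CoactBr.sp R C).hom ≫ h).appTop x = _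
    rw [Scheme.Hom.comp_appTop, CommRingCat.comp_apply]
  have h3 : (CoactBr.sp R C).hom.appTop (h.appTop x) =
      el R C (algebraMap R C ((Scheme.ΓSpecIso (CommRingCat.of R)).hom (h.appTop x))) := by
    rw [AlgHom.commutes]
    generalize h.appTop x = y
    change _ = ((Scheme.ΓSpecIso (CommRingCat.of R)).inv ≫ (CoactBr.sp R C).hom.appTop)
      ((Scheme.ΓSpecIso (CommRingCat.of R)).hom y)
    rw [← CommRingCat.comp_apply, Iso.hom_inv_id_assoc]
  rw [h1, h2, h3, elI_el]

variable [Flat G.hom] [IsAffineHom G.hom]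

theorem exists_data (hπ : ¬ IsUnit π) (c : K'ˣ) (hc0 : (c : K') = algebraMap R K' π)
    (d : ST Scheme.fppfPrecoverage R π h ⥤ᵇ AlgSt.BG Scheme.fppfPrecoverage G)
    (θ : GTrans.F' π h w ⟶ BasedFunctor.comp (subI _ _) (BasedFunctor.comp (subI _ _) d)) :
    ∃ (P : Over S) (act : AlgGrp.Action G P) (p : P ⟶ (Over.map h).obj (STSch R π)),
      IsPullback act.act (snd G P) p p ∧ Flat p.left ∧ Surjective p.left ∧ IsAffineHom p.left ∧
      ∃ (σs σt : (Over.map h).obj (CoactBr.sp R (Lau R)) ⟶ P),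
        σs ≫ p = (Over.map h).map (CoactBr.pt (phiS π)) ∧ σt ≫ p = (Over.map h).map (CoactBr.pt (phiT π)) ∧
        (Over.map h).map (CoactBr.pt (psi R (1 : K'ˣ) 1)) ≫ σs =
          sm act ((Over.map h).map (CoactBr.pt (IsScalarTower.toAlgHom R K' (Lau K'))) ≫ w)
            ((Over.map h).map (CoactBr.pt (psi R c (-1))) ≫ σt) := by
  obtain ⟨P, act, p, h1, h2, h3, h4, σ, hσ1, hσ2⟩ := GSecs.exists_sec d θ
  have hs : IsUnit (phiS π (sFn R π)) ∨ IsUnit (phiS π (tFn R π)) := Or.inl (by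
    rw [phiS, stPt_sFn]; exact GaRing.isUnit_zPow 1)
  have ht : IsUnit (phiT π (sFn R π)) ∨ IsUnit (phiT π (tFn R π)) := Or.inr (by
    rw [phiT, stPt_tFn]; exact GaRing.isUnit_zPow 1)
  have hst1 : IsUnit (((psi R (1 : K'ˣ) 1).comp (phiS π)) (sFn R π)) := by
    rw [AlgHom.comp_apply, phiS, stPt_sFn]; exact (GaRing.isUnit_zPow 1).map _
  have hst : IsUnit (((psi R (1 : K'ˣ) 1).comp (phiS π)) (sFn R π)) ∨
    IsUnit (((psi R (1 : K'ˣ) 1).comp (phiS π)) (tFn R π)) := Or.inl hst1
  have hts : ¬ IsUnit (phiT π (sFn R π)) := by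
    rw [phiT, stPt_sFn]; exact fun t => hπ (isUnit_of_single _ t)
  let ws : (ob _ hst : (GaEval.SS π h).obj) ⟶ ob _ hs := obMap hs hst (psi R (1 : K'ˣ) 1) rfl
  let wt : (ob _ hst : (GaEval.SS π h).obj) ⟶ ob _ ht := obMap ht hst (psi R c (-1)) (psi_eq c hc0).symm
  have e1 := hσ2 _ _ ws (obU (phiS π))
  have e2 := hσ2 _ _ wt (obU (phiT π))
  have e3 : ws.hom.hom ≫ obU (phiS π) = wt.hom.hom ≫ obU (phiT π) :=
    (obMap_obU hs hst (psi R (1 : K'ˣ) 1) rfl).trans (obMap_obU ht hst (psi R c (-1)) (psi_eq c hc0).symm).symm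
  have g1 : GTrans.gg h w ws.hom.hom = 1 := GTrans.gg_neg h w _ fun t => t.2 ((inU_s_iff _).2 (hs.elim id fun _ => by
    rw [phiS, stPt_sFn]; exact GaRing.isUnit_zPow 1))
  have hu : IsUnit (fnS (CoactBr.sp R (Lau K')).hom π) := by
    have u1 : fnS (CoactBr.sp R (Lau K')).hom π = el R (Lau K') (algebraMap R (Lau K') π) :=
      ((el R (Lau K')).commutes π).symm
    rw [u1, isUnit_el_iff]
    have : algebraMap R (Lau K') π = algebraMap K' (Lau K') (algebraMap R K' π) := rfl
    rw [this, ← hc0]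
    exact c.isUnit.map _
  have g2 : GTrans.gg h w wt.hom.hom = (Over.map h).map (CoactBr.pt (IsScalarTower.toAlgHom R K' (Lau K'))) ≫ w :=
    (GTrans.gg_pos h w _ ((inU_s_iff _).2 hst1) (fun t => hts ((inU_s_iff _).1 t))).trans
      (GTrans.tt_of h w (Y := CoactBr.sp R (Lau K')) hu _)
  refine ⟨P, act, p, h1, h2, h3, h4, σ (ob _ hs) (obU (phiS π)), σ (ob _ ht) (obU (phiT π)), hσ1 _ _, hσ1 _ _, ?_⟩
  have e4 := (e1.symm.trans (congrArg (σ (ob _ hst)) e3)).trans e2
  rw [g1, g2, sm_one] at e4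
  exact e4

end K831.StGlue
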