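import Groth.Agent.ThetaS.K831.StLoc
import Groth.Agent.ThetaS.K831.EqMod
import Groth.Agent.ThetaS.K831.GSecs
import Groth.Agent.ThetaS.K831.GaMain

/-!
# Equivariant vectors of functions over the two charts of the two-branched curve
-/

set_option autoImplicit false
set_option backward.isDefEq.respectTransparency false
set_option backward.isDefEq.respectTransparency.types false
set_option linter.dupNamespace false
set_option linter.style.haveILetI false

universe u

open CategoryTheory CategoryTheory.Limits MonoidalCategory CartesianMonoidalCategory MonObj GrpObj AlgebraicGeometry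
open FibCat K943.FibBase K943.CoverExt K943.QuotAtlas K943.QuotTriv K943.QuotCover K943.QuotOpen K831.TwoCov K831.GaSec
open ThetaS K951.Pts K942.Coord K943.Points K942.EqGeom K942.RegPair

namespace K831.StGlue

open K831.GaFun K831.GTrans K831.GaMain K831.GaRing K831.EqMod K831.StLoc

attribute [local instance] K951.Pts.algΓ

section el

variable {R : Type u} [CommRing R] {C D : Type u} [CommRing C] [Algebra R C] [CommRing D] [Algebra R D]

variable (R C) in
/-- Elements of the ring from functions on the spectrum. -/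
noncomputable def elI : Γ((CoactBr.sp R C).left, ⊤) →+* C :=
  (RingEquiv.ofBijective (el R C).toRingHom el_bijective).symm.toRingHom

theorem elI_el (c : C) : elI R C (el R C c) = c :=
  (RingEquiv.ofBijective (el R C).toRingHom el_bijective).symm_apply_apply c

theorem el_elI (x : Γ((CoactBr.sp R C).left, ⊤)) : el R C (elI R C x) = x :=
  (RingEquiv.ofBijective (el R C).toRingHom el_bijective).apply_symm_apply x

theorem elI_bijective : Function.Bijective (elI R C) :=
  (RingEquiv.ofBijective (el R C).toRingHom el_bijective).symm.bijective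

theorem elI_app (ψ : D →ₐ[R] C) (x : Γ((CoactBr.sp R D).left, ⊤)) :
    elI R C ((CoactBr.pt ψ).left.appTop x) = ψ (elI R D x) := by
  conv_lhs => rw [← el_elI x]
  rw [appTop_el, elI_el]

end el

variable {R : Type u} [CommRing R] {π : R} {K' : Type u} [Field K'] [Algebra R K'] [IsLocalization.Away π K']
  {S : Scheme.{u}} {h : Spec (CommRingCat.of R) ⟶ S} {G : Over S} [GrpObj G]
  {w : (Over.map h).obj (CoactBr.sp R K') ⟶ G} {n : ℕ}

/-- The matrix of a point with values in a ring. -/
noncomputable def nmat {C : Type u} [CommRing C] [Algebra R C] (ρ : MatRep G n)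
    (w : (Over.map h).obj (CoactBr.sp R C) ⟶ G) : Matrix (Fin n) (Fin n) C :=
  (ρ.mat w).map (elI R C)

theorem nmat_comp {C D : Type u} [CommRing C] [Algebra R C] [CommRing D] [Algebra R D] (ρ : MatRep G n)
    (w : (Over.map h).obj (CoactBr.sp R D) ⟶ G) (ψ : D →ₐ[R] C) :
    nmat ρ ((Over.map h).map (CoactBr.pt ψ) ≫ w) = (nmat ρ w).map ψ := by
  rw [nmat, ρ.comp, nmat, Matrix.map_map, Matrix.map_map]
  congr 1
  funext x
  exact elI_app ψ x

theorem locAt_pb {φ : STRing R π →ₐ[R] Lau R} {e : STRing R π} (hl : LocAt (φ : STRing R π →+* Lau R) e) :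
    LocAt (pb ((Over.map h).map (CoactBr.pt φ))) (el R (STRing R π) e) :=
  hl.transfer (α := (el R (STRing R π)).toRingHom) (β := (el R (Lau R)).toRingHom) el_bijective el_bijective
    (fun a => appTop_el φ a)

theorem isEqv_of_smul {P T : Over S} {a : AlgGrp.Action G P} {p : P ⟶ T} (hc : IsPullback a.act (snd G P) p p)
    {ρ : MatRep G n} {c : Γ(T.left, ⊤)} (hz : ∀ x : Γ((G ⊗ P).left, ⊤), pb (snd G P ≫ p) c * x = 0 → x = 0)
    {v : Fin n → Γ(P.left, ⊤)} (hv : IsEqv a ρ (fun i => pb p c * v i)) : IsEqv a ρ v := by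
  funext i
  apply sub_eq_zero.1
  apply hz
  have h1 := congrFun hv i
  have h2 : (fun i => pb (snd G P) (pb p c * v i)) = pb (snd G P ≫ p) c • (fun i => pb (snd G P) (v i)) := by
    funext i
    rw [map_mul, ← pb_comp]; rfl
  rw [h2, Matrix.mulVec_smul, map_mul, ← pb_comp, hc.w, Pi.smul_apply, smul_eq_mul] at h1
  rw [mul_sub, h1, sub_self]

end K831.StGlue
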