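import Groth.Agent.ThetaS.K831.GaRing
import Groth.Agent.ThetaS.K942.Good
import Mathlib.RingTheory.IsTensorProduct
import Mathlib.Algebra.Module.LocalizedModule.IsLocalization
import Mathlib.RingTheory.Localization.BaseChange

/-!
# The charts of the two-branched curve are localizations; gluing vectors of functions
-/

set_option autoImplicit false
set_option linter.dupNamespace false
set_option linter.style.haveILetI false

universe u

open ThetaS K831.GaRing

namespace K831.StLoc

/-- The ring homomorphism is a localization away from an element. -/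
structure LocAt {A B : Type*} [CommRing A] [CommRing B] (f : A →+* B) (e : A) : Prop where
  unit : IsUnit (f e)
  surj : ∀ b, ∃ (n : ℕ) (a : A), f e ^ n * b = f a
  eq : ∀ a, f a = 0 → ∃ n : ℕ, e ^ n * a = 0

theorem LocAt.isLocalization {A B : Type*} [CommRing A] [CommRing B] [Algebra A B] {e : A}
    (h : LocAt (algebraMap A B) e) : IsLocalization.Away e B where
  map_units := by
    rintro ⟨_, n, rfl⟩
    rw [map_pow]; exact h.unit.pow n
  surj b := by
    obtain ⟨n, a, ha⟩ := h.surj b
    exact ⟨(a, ⟨e ^ n, n, rfl⟩), by rw [map_pow, mul_comm]; exact ha⟩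
  exists_of_eq {x y} hxy := by
    obtain ⟨n, hn⟩ := h.eq (x - y) (by rw [map_sub, hxy, sub_self])
    exact ⟨⟨e ^ n, n, rfl⟩, sub_eq_zero.1 (by rw [← mul_sub]; exact hn)⟩

theorem LocAt.transfer {A B A' B' : Type*} [CommRing A] [CommRing B] [CommRing A'] [CommRing B'] {f : A →+* B}
    {f' : A' →+* B'} {e : A} (h : LocAt f e) {α : A →+* A'} {β : B →+* B'} (hα : Function.Bijective α)
    (hβ : Function.Bijective β) (hc : ∀ a, f' (α a) = β (f a)) : LocAt f' (α e) where
  unit := by rw [hc]; exact h.unit.map β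
  surj b' := by
    obtain ⟨b, rfl⟩ := hβ.2 b'
    obtain ⟨n, a, ha⟩ := h.surj b
    exact ⟨n, α a, by rw [hc, hc, ← ha, map_mul, map_pow]⟩
  eq a' h' := by
    obtain ⟨a, rfl⟩ := hα.2 a'
    rw [hc] at h'
    obtain ⟨n, hn⟩ := h.eq a (hβ.1 (h'.trans (map_zero β).symm))
    exact ⟨n, by rw [← map_pow, ← map_mul, hn, map_zero]⟩

section st

variable {R : Type u} [CommRing R]

theorem pow_z (n : ℕ) : (zPow R 1) ^ n = zPow R n := by
  induction n with
  | zero => rw [pow_zero]; rfl
  | succ n ih => rw [pow_succ, ih, zPow_mul]; norm_num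

theorem aeval_coeff (p : Polynomial R) (i : ℕ) :
    (Polynomial.aeval (zPow R 1) p).coeff (Multiplicative.ofAdd (i : ℤ)) = p.coeff i := by
  induction p using Polynomial.induction_on' with
  | add p q hp hq =>
    rw [map_add, MonoidAlgebra.coeff_add, Finsupp.add_apply, hp, hq, Polynomial.coeff_add]
  | monomial n a =>
    rw [Polynomial.aeval_monomial, pow_z, ← Algebra.smul_def, zPow, MonoidAlgebra.smul_single, smul_eq_mul, mul_one,
      MonoidAlgebra.coeff_single, Polynomial.coeff_monomial, Finsupp.single_apply]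
    congr 1
    simp

theorem aeval_injective (p : Polynomial R) (h : Polynomial.aeval (zPow R 1) p = 0) : p = 0 := by
  ext i
  rw [← aeval_coeff, h, MonoidAlgebra.coeff_zero, Finsupp.zero_apply, Polynomial.coeff_zero]

theorem surj_z (l : Lau R) : ∃ (N : ℕ) (p : Polynomial R), (zPow R 1) ^ N * l = Polynomial.aeval (zPow R 1) p := by
  induction l using MonoidAlgebra.induction_linear with
  | zero => exact ⟨0, 0, by rw [mul_zero, map_zero]⟩
  | add f g hf hg =>
    obtain ⟨n, p, hp⟩ := hf
    obtain ⟨m, q, hq⟩ := hg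
    refine ⟨n + m, Polynomial.X ^ m * p + Polynomial.X ^ n * q, ?_⟩
    rw [map_add, map_mul, map_mul, map_pow, map_pow, Polynomial.aeval_X, ← hp, ← hq]
    ring
  | single m r =>
    obtain ⟨j, hj⟩ : ∃ j : ℕ, (Int.natAbs (Multiplicative.toAdd m) : ℤ) + Multiplicative.toAdd m = j :=
      ⟨((Int.natAbs (Multiplicative.toAdd m) : ℤ) + Multiplicative.toAdd m).toNat, by
        rw [Int.toNat_of_nonneg]; omega⟩
    refine ⟨Int.natAbs (Multiplicative.toAdd m), Polynomial.monomial j r, ?_⟩
    rw [Polynomial.aeval_monomial, pow_z, pow_z, ← Algebra.smul_def, MonoidAlgebra.single_mul_single, one_mul,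
      MonoidAlgebra.smul_single, smul_eq_mul, mul_one, ← hj]
    rfl

theorem locAt_of {π : R} (φ : STRing R π →ₐ[R] Lau R) {e : STRing R π} (he : φ e = zPow R 1)
    (hx : ∀ x : STRing R π, ∃ (n : ℕ) (p : Polynomial R), e ^ n * x = Polynomial.aeval e p) :
    LocAt (φ : STRing R π →+* Lau R) e where
  unit := by
    change IsUnit (φ e)
    rw [he]; exact isUnit_zPow 1
  surj b := by
    obtain ⟨N, p, hp⟩ := surj_z b
    refine ⟨N, Polynomial.aeval e p, ?_⟩
    change φ e ^ N * b = φ _
    rw [he, hp, ← Polynomial.aeval_algHom_apply, he]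
  eq a ha := by
    obtain ⟨n, p, hp⟩ := hx a
    have h1 : Polynomial.aeval (zPow R 1) p = 0 := by
      rw [← he, Polynomial.aeval_algHom_apply, ← hp, map_mul]
      have : φ a = 0 := ha
      rw [this, mul_zero]
    exact ⟨n, by rw [hp, aeval_injective p h1, map_zero]⟩

/-- Exchanging the two coordinates. -/
noncomputable def swap (π : R) : STRing R π →ₐ[R] STRing R π :=
  stPt (tFn R π) (sFn R π) ((mul_comm _ _).trans (sFn_mul_tFn R π))

theorem swap_swap (π : R) (x : STRing R π) : swap π (swap π x) = x := by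
  have : (swap π).comp (swap π) = AlgHom.id R _ := by
    apply stRing_algHom_ext
    · rw [AlgHom.comp_apply, AlgHom.id_apply, swap, stPt_sFn, stPt_tFn]
    · rw [AlgHom.comp_apply, AlgHom.id_apply, swap, stPt_tFn, stPt_sFn]
  exact congrArg (fun f => f x) this

theorem exists_pow_t (π : R) (x : STRing R π) :
    ∃ (n : ℕ) (p : Polynomial R), tFn R π ^ n * x = Polynomial.aeval (tFn R π) p := by
  obtain ⟨n, p, hp⟩ := K942.Good.exists_pow_s π (swap π x)
  refine ⟨n, p, ?_⟩
  have h1 : swap π (sFn R π) = tFn R π := by rw [swap, stPt_sFn]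
  have h2 := congrArg (swap π) hp
  rwa [map_mul, map_pow, swap_swap, h1, ← Polynomial.aeval_algHom_apply, h1] at h2

theorem locAt_phiS (π : R) : LocAt (phiS π : STRing R π →+* Lau R) (sFn R π) :=
  locAt_of _ (by rw [phiS, stPt_sFn]) (K942.Good.exists_pow_s π)

theorem locAt_phiT (π : R) : LocAt (phiT π : STRing R π →+* Lau R) (tFn R π) :=
  locAt_of _ (by rw [phiT, stPt_tFn]) (exists_pow_t π)

/-- The map of Laurent rings is injective. -/
theorem psi_injective {K' : Type u} [Field K'] [Algebra R K'] (hR : Function.Injective (algebraMap R K')) :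
    Function.Injective (psi R (1 : K'ˣ) 1) := by
  rw [injective_iff_map_eq_zero]
  intro x hx
  have key : ∀ (x : Lau R) (m : Multiplicative ℤ), (psi R (1 : K'ˣ) 1 x).coeff m = algebraMap R K' (x.coeff m) := by
    intro x m
    induction x using MonoidAlgebra.induction_linear with
    | zero => rw [map_zero, MonoidAlgebra.coeff_zero, MonoidAlgebra.coeff_zero, Finsupp.zero_apply, Finsupp.zero_apply,
        map_zero]
    | add f g hf hg =>
      rw [map_add, MonoidAlgebra.coeff_add, MonoidAlgebra.coeff_add, Finsupp.add_apply, Finsupp.add_apply, hf, hg,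
        map_add]
    | single j r =>
      rw [psi_single, chi_apply, MonoidAlgebra.smul_single, MonoidAlgebra.coeff_single, MonoidAlgebra.coeff_single,
        one_zpow, Units.val_one, zpow_one, Algebra.smul_def, mul_one, Finsupp.single_apply, Finsupp.single_apply]
      split_ifs
      · rfl
      · rw [map_zero]
  ext m
  apply hR
  rw [← key, hx, MonoidAlgebra.coeff_zero, MonoidAlgebra.coeff_zero, Finsupp.zero_apply, Finsupp.zero_apply, map_zero]

end st

section glue

open K942.RegPair

variable {A C Bs Bt B' : Type*} [CommRing A] [CommRing C] [CommRing Bs] [CommRing Bt] [CommRing B'] [Algebra A C]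
  {n : ℕ}

theorem glue_alg (iS : Algebra A Bs) (iT : Algebra A Bt) (M : Submodule A (Fin n → C)) {cs ct : A}
    (hC : RegPair (algebraMap A C cs) (algebraMap A C ct))
    (hM : ∀ v, cs • v ∈ M → v ∈ M) (_ : IsLocalization.Away cs Bs) (_ : IsLocalization.Away ct Bt)
    (fs : M →ₗ[A] (Fin n → Bs)) (ft : M →ₗ[A] (Fin n → Bt)) (hfs : IsBaseChange Bs fs) (hft : IsBaseChange Bt ft)
    (js : Bs →+* B') (jt : Bt →+* B') (hjs : Function.Injective js)
    (hj : ∀ a, js (algebraMap A Bs a) = jt (algebraMap A Bt a)) (g : Matrix (Fin n) (Fin n) B')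
    (hg : ∀ v, (fun i => js (fs v i)) = g.mulVec (fun i => jt (ft v i))) (x : Fin n → Bs) (y : Fin n → Bt)
    (hxy : (fun i => js (x i)) = g.mulVec (fun i => jt (y i))) : ∃ v, fs v = x ∧ ft v = y := by
  haveI : IsLocalizedModule (Submonoid.powers cs) fs := (isLocalizedModule_iff_isBaseChange _ Bs fs).2 hfs
  haveI : IsLocalizedModule (Submonoid.powers ct) ft := (isLocalizedModule_iff_isBaseChange _ Bt ft).2 hft
  obtain ⟨⟨m₁, ⟨_, k, rfl⟩⟩, h₁⟩ := IsLocalizedModule.surj (Submonoid.powers cs) fs x
  obtain ⟨⟨m₂, ⟨_, l, rfl⟩⟩, h₂⟩ := IsLocalizedModule.surj (Submonoid.powers ct) ft y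
  replace h₁ : cs ^ k • x = fs m₁ := h₁
  replace h₂ : ct ^ l • y = ft m₂ := h₂
  have nzd : ∀ (n : ℕ) (v : M), cs ^ n • v = 0 → v = 0 := by
    intro n v hv
    apply Subtype.ext
    funext i
    apply hC.pow_left n
    have := congrFun (congrArg Subtype.val hv) i
    rw [← map_pow, ← Algebra.smul_def]
    exact this
  have inj : Function.Injective fs := by
    rw [injective_iff_map_eq_zero]
    intro v hv
    obtain ⟨⟨_, n, rfl⟩, hn⟩ := IsLocalizedModule.exists_of_eq (S := Submonoid.powers cs) (f := fs)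
      (x₁ := v) (x₂ := 0) (by rw [hv, map_zero])
    replace hn : cs ^ n • v = cs ^ n • (0 : M) := hn
    exact nzd n v (by rw [hn, smul_zero])
  have key : ct ^ l • m₁ = cs ^ k • m₂ := by
    apply inj
    funext i
    apply hjs
    have e1 : js (fs (ct ^ l • m₁) i) = js (algebraMap A Bs (ct ^ l * cs ^ k)) * js (x i) := by
      rw [map_smul, ← h₁, ← mul_smul, Pi.smul_apply, Algebra.smul_def, map_mul]
    have e2 : js (fs (cs ^ k • m₂) i) = (g.mulVec (fun i => jt (ft (cs ^ k • m₂) i))) i := congrFun (hg _) i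
    have e3 : (fun i => jt (ft (cs ^ k • m₂) i)) = (jt (algebraMap A Bt (ct ^ l * cs ^ k))) • (fun i => jt (y i)) := by
      funext i
      rw [map_smul, ← h₂, ← mul_smul, Pi.smul_apply, Algebra.smul_def, map_mul, Pi.smul_apply, smul_eq_mul,
        mul_comm (cs ^ k)]
    rw [e1, e2, e3, Matrix.mulVec_smul, Pi.smul_apply, ← hxy, smul_eq_mul, hj]
  have key' : ∀ i, ct ^ l • m₁.1 i = cs ^ k • m₂.1 i := fun i => congrFun (congrArg Subtype.val key) i
  have key'' : ∀ i, ∃ z, m₁.1 i = (algebraMap A C cs) ^ k * z := fun i => by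
    apply hC.pow_pow k l (m₁.1 i) (m₂.1 i)
    rw [← map_pow, ← map_pow, ← Algebra.smul_def, ← Algebra.smul_def]
    exact key' i
  choose z hz using key''
  have hz' : cs ^ k • z = m₁.1 := by
    funext i
    rw [hz, Pi.smul_apply, Algebra.smul_def, map_pow]
  have hzM : z ∈ M := by
    have : ∀ k : ℕ, cs ^ k • z ∈ M → z ∈ M := by
      intro k
      induction k with
      | zero => intro h; rwa [pow_zero, one_smul] at h
      | succ k ih =>
        intro h
        apply ih
        apply hM
        rwa [← mul_smul, ← pow_succ']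
    exact this k (by rw [hz']; exact m₁.2)
  let v : M := ⟨z, hzM⟩
  have hv : cs ^ k • v = m₁ := Subtype.ext hz'
  have hv2 : ct ^ l • v = m₂ := by
    apply sub_eq_zero.1
    apply nzd k
    rw [smul_sub, ← key, ← hv, smul_smul, smul_smul, mul_comm, sub_self]
  refine ⟨v, ?_, ?_⟩
  · apply IsLocalizedModule.smul_injective fs (⟨cs ^ k, k, rfl⟩ : Submonoid.powers cs)
    change cs ^ k • fs v = cs ^ k • x
    rw [← map_smul, hv, h₁]
  · apply IsLocalizedModule.smul_injective ft (⟨ct ^ l, l, rfl⟩ : Submonoid.powers ct)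
    change ct ^ l • ft v = ct ^ l • y
    rw [← map_smul, hv2, h₂]

end glue

end K831.StLoc
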