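import Groth.Agent.ThetaS.K831.StData

/-!
# Equivariant vectors over the two charts: compatibility and gluing
-/

set_option autoImplicit false
set_option backward.isDefEq.respectTransparency false
set_option backward.isDefEq.respectTransparency.types false
set_option linter.dupNamespace false
set_option linter.style.haveILetI false

universe u

open CategoryTheory CategoryTheory.Limits MonoidalCategory CartesianMonoidalCategory MonObj GrpObj AlgebraicGeometry
open FibCat K943.FibBase K943.CoverExt K943.QuotAtlas K943.QuotTriv K943.QuotCover K943.QuotOpen K831.TwoCov K831.GaSec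
open ThetaS K951.Pts K942.Coord K943.Points K942.EqGeom K942.RegPair

namespace K831.StGlue

open K831.GaFun K831.GTrans K831.GaMain K831.GaRing K831.EqMod K831.StLoc

attribute [local instance] K951.Pts.algΓ

theorem LocAt_flat {A B : Type u} [CommRing A] [CommRing B] {f : A →+* B} {e : A} (h : LocAt f e) : f.Flat := by
  letI := f.toAlgebra
  haveI : IsLocalization.Away e B := LocAt.isLocalization (e := e) h
  exact IsLocalization.flat B (Submonoid.powers e)

variable {R : Type u} [CommRing R] {π : R} {K' : Type u} [Field K'] [Algebra R K']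
  {S : Scheme.{u}} {h : Spec (CommRingCat.of R) ⟶ S} {G : Over S} [GrpObj G]
  {w : (Over.map h).obj (CoactBr.sp R K') ⟶ G} {n : ℕ}
  {P : Over S} {act : AlgGrp.Action G P} {p : P ⟶ (Over.map h).obj (STSch R π)}
  (hc : IsPullback act.act (snd G P) p p)
  {σs σt : (Over.map h).obj (CoactBr.sp R (Lau R)) ⟶ P} {c : K'ˣ}

theorem compat (hst : (Over.map h).map (CoactBr.pt (psi R (1 : K'ˣ) 1)) ≫ σs =
          sm act ((Over.map h).map (CoactBr.pt (IsScalarTower.toAlgHom R K' (Lau K'))) ≫ w)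
            ((Over.map h).map (CoactBr.pt (psi R c (-1))) ≫ σt)) {ρ : MatRep G n} {v : Fin n → Γ(P.left, ⊤)}
    (hv : IsEqv act ρ v) :
    (fun i => psi R (1 : K'ˣ) 1 (elI R (Lau R) (pb σs (v i)))) =
      ((nmat ρ w).map (algebraMap K' (Lau K'))).mulVec (fun i => psi R c (-1) (elI R (Lau R) (pb σt (v i)))) := by
  have h1 := isEqv_sm hv ((Over.map h).map (CoactBr.pt (IsScalarTower.toAlgHom R K' (Lau K'))) ≫ w)
    ((Over.map h).map (CoactBr.pt (psi R c (-1))) ≫ σt)
  rw [← hst] at h1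
  have h2 : ∀ (ψ : Lau R →ₐ[R] Lau K') (σ : (Over.map h).obj (CoactBr.sp R (Lau R)) ⟶ P) (x : Γ(P.left, ⊤)),
      elI R (Lau K') (pb ((Over.map h).map (CoactBr.pt ψ) ≫ σ) x) = ψ (elI R (Lau R) (pb σ x)) := fun ψ σ x => by
    rw [pb_comp]
    exact elI_app ψ (pb σ x)
  funext i
  rw [← h2, congrFun h1 i]
  have h3 := congrFun (map_mulVec (elI R (Lau K'))
    (ρ.mat ((Over.map h).map (CoactBr.pt (IsScalarTower.toAlgHom R K' (Lau K'))) ≫ w))
    (fun i => pb ((Over.map h).map (CoactBr.pt (psi R c (-1))) ≫ σt) (v i))) i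
  refine h3.trans ?_
  have h4 : (ρ.mat ((Over.map h).map (CoactBr.pt (IsScalarTower.toAlgHom R K' (Lau K'))) ≫ w)).map
      (elI R (Lau K')) = (nmat ρ w).map (algebraMap K' (Lau K')) :=
    nmat_comp ρ w (IsScalarTower.toAlgHom R K' (Lau K'))
  rw [h4]
  congr 1
  funext i
  exact h2 _ _ _

variable [IsDomain R] [Flat G.hom] [IsAffineHom G.hom] [Flat p.left] [IsAffineHom p.left]

include hc in
theorem glue (hπ0 : π ≠ 0) (hK : Function.Injective (algebraMap R K')) (hc0 : (c : K') = algebraMap R K' π)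
    (hs : σs ≫ p = (Over.map h).map (CoactBr.pt (phiS π)))
    (ht : σt ≫ p = (Over.map h).map (CoactBr.pt (phiT π)))
    (hst : (Over.map h).map (CoactBr.pt (psi R (1 : K'ˣ) 1)) ≫ σs =
          sm act ((Over.map h).map (CoactBr.pt (IsScalarTower.toAlgHom R K' (Lau K'))) ≫ w)
            ((Over.map h).map (CoactBr.pt (psi R c (-1))) ≫ σt)) {ρ : MatRep G n} (x y : Fin n → Lau R)
    (hxy : (fun i => psi R (1 : K'ˣ) 1 (x i)) =
      ((nmat ρ w).map (algebraMap K' (Lau K'))).mulVec (fun i => psi R c (-1) (y i))) :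
    ∃ v : Fin n → Γ(P.left, ⊤), IsEqv act ρ v ∧ (∀ i, elI R (Lau R) (pb σs (v i)) = x i) ∧
      ∀ i, elI R (Lau R) (pb σt (v i)) = y i := by
  let T : Over S := (Over.map h).obj (STSch R π)
  let Q : Over S := (Over.map h).obj (CoactBr.sp R (Lau R))
  haveI : IsAffine T.left := isAffine_st π
  haveI : IsAffine Q.left := inferInstanceAs (IsAffine (Spec (CommRingCat.of (Lau R))))
  haveI : IsAffine P.left := isAffine_of_isAffineHom p.left
  obtain ⟨i1, i2⟩ := snd_props (G := G) P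
  haveI : IsAffine (G ⊗ P).left := isAffine_of_isAffineHom (snd G P).left
  haveI : Flat (snd G P ≫ p).left := by rw [Over.comp_left]; infer_instance
  letI aP : Algebra Γ(T.left, ⊤) Γ(P.left, ⊤) := (pb p).toAlgebra
  obtain ⟨M, hM, HM⟩ := exists_bc act hc ρ rfl
  -- localizations
  let cs : Γ(T.left, ⊤) := el R (STRing R π) (sFn R π)
  let ct : Γ(T.left, ⊤) := el R (STRing R π) (tFn R π)
  have ls : LocAt (pb (σs ≫ p)) cs := by rw [hs]; exact locAt_pb (locAt_phiS π)
  have lt : LocAt (pb (σt ≫ p)) ct := by rw [ht]; exact locAt_pb (locAt_phiT π)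
  haveI fs : Flat (σs ≫ p).left := (HasRingHomProperty.iff_of_isAffine (P := @Flat)).2 (LocAt_flat ls)
  haveI ft : Flat (σt ≫ p).left := (HasRingHomProperty.iff_of_isAffine (P := @Flat)).2 (LocAt_flat lt)
  have hreg : RegPair cs ct := by
    have := regPair_st (R := R) hπ0
    have e1 : stFn (sFn R π) = cs := (el_apply (sFn R π)).symm
    have e2 : stFn (tFn R π) = ct := (el_apply (tFn R π)).symm
    rwa [e1, e2] at this
  obtain ⟨iS, hiS⟩ : ∃ i : Algebra Γ(T.left, ⊤) Γ(Q.left, ⊤), i = (pb (σs ≫ p)).toAlgebra := ⟨_, rfl⟩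
  obtain ⟨iT, hiT⟩ : ∃ i : Algebra Γ(T.left, ⊤) Γ(Q.left, ⊤), i = (pb (σt ≫ p)).toAlgebra := ⟨_, rfl⟩
  have aS : @algebraMap _ _ _ _ iS = pb (σs ≫ p) := by rw [hiS]; rfl
  have aT : @algebraMap _ _ _ _ iT = pb (σt ≫ p) := by rw [hiT]; rfl
  obtain ⟨f1, hf1, hb1⟩ := @HM Q σs _ _ iS aS
  obtain ⟨f2, hf2, hb2⟩ := @HM Q σt _ _ iT aT
  have e1 : ∀ (a : Γ(T.left, ⊤)), elI R (Lau R) (pb (σs ≫ p) a) = phiS π (elI R (STRing R π) a) := fun a => by
    rw [hs]; exact elI_app (phiS π) a
  have e2 : ∀ (a : Γ(T.left, ⊤)), elI R (Lau R) (pb (σt ≫ p) a) = phiT π (elI R (STRing R π) a) := fun a => by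
    rw [ht]; exact elI_app (phiT π) a
  obtain ⟨v, hv1, hv2⟩ := glue_alg (B' := Lau K') iS iT M (cs := cs) (ct := ct)
    (regPair_map (flat_pb p) hreg)
    (fun v hv => by
      rw [hM] at hv ⊢
      exact isEqv_of_smul hc (c := cs) (regPair_map (flat_pb (snd G P ≫ p)) hreg).nzd hv)
    (@LocAt.isLocalization _ _ _ _ iS cs (by rw [aS]; exact ls))
    (@LocAt.isLocalization _ _ _ _ iT ct (by rw [aT]; exact lt))
    f1 f2 hb1 hb2 ((psi R (1 : K'ˣ) 1 : Lau R →+* Lau K').comp (elI R (Lau R)))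
    ((psi R c (-1) : Lau R →+* Lau K').comp (elI R (Lau R)))
    ((psi_injective hK).comp elI_bijective.1)
    (fun a => by
      rw [aS, aT]
      change psi R (1 : K'ˣ) 1 (elI R (Lau R) (pb (σs ≫ p) a)) = psi R c (-1) (elI R (Lau R) (pb (σt ≫ p) a))
      rw [e1, e2]
      exact congrArg (fun f => f (elI R (STRing R π) a)) (psi_eq c hc0))
    ((nmat ρ w).map (algebraMap K' (Lau K')))
    (fun v => by
      have := compat hst ((hM _).1 v.2)
      simp only [hf1, hf2]
      exact this)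
    (fun i => el R (Lau R) (x i)) (fun i => el R (Lau R) (y i))
    ((funext fun i => congrArg (psi R (1 : K'ˣ) 1) (elI_el (x i))).trans (hxy.trans
      (congrArg (Matrix.mulVec _) (funext fun i => (congrArg (psi R c (-1)) (elI_el (y i))).symm))))
  refine ⟨v.1, (hM _).1 v.2, fun i => ?_, fun i => ?_⟩
  · rw [← hf1, hv1, elI_el]
  · rw [← hf2, hv2, elI_el]

end K831.StGlue
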