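import Groth.Agent.ThetaS.K831.StMain

/-!
# Integrality of the matrix of a point: the inductive step
-/

set_option autoImplicit false
set_option backward.isDefEq.respectTransparency false
set_option backward.isDefEq.respectTransparency.types false
set_option linter.dupNamespace false
set_option linter.style.haveILetI false

universe u

open CategoryTheory CategoryTheory.Limits MonoidalCategory CartesianMonoidalCategory MonObj GrpObj AlgebraicGeometry
open FibCat K943.FibBase K943.CoverExt K943.QuotAtlas K943.QuotTriv K943.QuotCover K943.QuotOpen K831.TwoCov K831.GaSec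
open ThetaS K951.Pts K942.Coord K943.Points K942.EqGeom K942.RegPair

namespace K831.StGlue

open K831.GaFun K831.GTrans K831.GaMain K831.GaRing K831.EqMod K831.StLoc

attribute [local instance] K951.Pts.algΓ

/-- The scalars on a scheme over the base. -/
noncomputable abbrev cst {S : Scheme.{u}} (W : Over S) : Γ(S, ⊤) →+* Γ(W.left, ⊤) := W.hom.appTop.hom

theorem pb_cst {S : Scheme.{u}} {W W' : Over S} (f : W' ⟶ W) (x : Γ(S, ⊤)) : pb f (cst W x) = cst W' x := by
  change f.left.appTop (W.hom.appTop x) = W'.hom.appTop x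
  rw [← Over.w f, Scheme.Hom.comp_appTop, CommRingCat.comp_apply]

/-- The scalars in the ring. -/
noncomputable def gam {R : Type u} [CommRing R] {S : Scheme.{u}} (h : Spec (CommRingCat.of R) ⟶ S) : Γ(S, ⊤) →+* R :=
  (Scheme.ΓSpecIso (CommRingCat.of R)).hom.hom.comp h.appTop.hom

variable {R : Type u} [CommRing R] {π : R} {K' : Type u} [Field K'] [Algebra R K']
  {S : Scheme.{u}} {h : Spec (CommRingCat.of R) ⟶ S} {G : Over S} [GrpObj G]
  {w : (Over.map h).obj (CoactBr.sp R K') ⟶ G} {n r : ℕ}

theorem elI_cst {C : Type u} [CommRing C] [Algebra R C] {P : Over S} (s : (Over.map h).obj (CoactBr.sp R C) ⟶ P)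
    (x : Γ(S, ⊤)) : elI R C (pb s (cst P x)) = algebraMap R C (gam h x) := elI_const s x

theorem coeff_smul_one (a : K') (x : Lau K') : (algebraMap K' (Lau K') a * x).coeff 1 = a * x.coeff 1 := by
  rw [← Algebra.smul_def, MonoidAlgebra.coeff_smul, Finsupp.smul_apply, smul_eq_mul]

theorem coeff_smul_one' (a : R) (x : Lau R) : (algebraMap R (Lau R) a * x).coeff 1 = a * x.coeff 1 := by
  rw [← Algebra.smul_def, MonoidAlgebra.coeff_smul, Finsupp.smul_apply, smul_eq_mul]

/-- The coefficient at `1` as a linear map. -/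
noncomputable def cf (A : Type u) [CommRing A] : Lau A →+ A where
  toFun x := x.coeff 1
  map_zero' := by rw [MonoidAlgebra.coeff_zero, Finsupp.zero_apply]
  map_add' x y := by rw [MonoidAlgebra.coeff_add, Finsupp.add_apply]

theorem cf_mulVec {A : Type u} [CommRing A] (N : Matrix (Fin r) (Fin n) A) (x : Fin n → Lau A) (i : Fin r) :
    cf A (((N.map (algebraMap A (Lau A))).mulVec x) i) = (N.mulVec (fun i => cf A (x i))) i := by
  rw [Matrix.mulVec, dotProduct, map_sum, Matrix.mulVec, dotProduct]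
  refine Finset.sum_congr rfl fun j _ => ?_
  rw [Matrix.map_apply]
  change (algebraMap A (Lau A) (N i j) * x j).coeff 1 = N i j * (x j).coeff 1
  rw [← Algebra.smul_def, MonoidAlgebra.coeff_smul, Finsupp.smul_apply, smul_eq_mul]

theorem psi_cf (c : K'ˣ) {e : ℤ} (he : e ≠ 0) (x : Lau R) : cf K' (psi R c e x) = algebraMap R K' (cf R x) :=
  psi_coeff c he x

theorem cf_algebraMap {A : Type u} [CommRing A] (a : A) : cf A (algebraMap A (Lau A) a) = a := by
  change (algebraMap A (Lau A) a).coeff 1 = a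
  have : algebraMap A (Lau A) a = MonoidAlgebra.single 1 a := rfl
  rw [this, MonoidAlgebra.coeff_single, Finsupp.single_eq_same]

variable {P : Over S} {act : AlgGrp.Action G P} {p : P ⟶ (Over.map h).obj (STSch R π)}
  (hc : IsPullback act.act (snd G P) p p)
  {σs σt : (Over.map h).obj (CoactBr.sp R (Lau R)) ⟶ P} {c : K'ˣ}
  [IsDomain R] [Flat G.hom] [IsAffineHom G.hom] [Flat p.left] [IsAffineHom p.left] [Surjective p.left]

include hc in
theorem exists_XY (hπ0 : π ≠ 0) (hK : Function.Injective (algebraMap R K')) (hc0 : (c : K') = algebraMap R K' π)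
    (hs : σs ≫ p = (Over.map h).map (CoactBr.pt (phiS π)))
    (ht : σt ≫ p = (Over.map h).map (CoactBr.pt (phiT π)))
    (hst : (Over.map h).map (CoactBr.pt (psi R (1 : K'ˣ) 1)) ≫ σs =
          sm act ((Over.map h).map (CoactBr.pt (IsScalarTower.toAlgHom R K' (Lau K'))) ≫ w)
            ((Over.map h).map (CoactBr.pt (psi R c (-1))) ≫ σt)) (ρ : MatRep G n) (ρQ : MatRep G r)
    (a : Matrix (Fin r) (Fin n) Γ(S, ⊤)) (b : Matrix (Fin n) (Fin r) Γ(S, ⊤)) (hab : a * b = 1)
    (hρ : ∀ {W : Over S} (g : W ⟶ G), a.map (cst W) * ρ.mat g = ρQ.mat g * a.map (cst W))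
    (B : Matrix (Fin r) (Fin r) R) (hB : nmat ρQ w = B.map (algebraMap R K')) (y : Fin r → R) :
    ∃ X Y : Fin n → R, (a.map (gam h)).mulVec Y = y ∧
      (nmat ρ w).mulVec (fun i => algebraMap R K' (Y i)) = fun i => algebraMap R K' (X i) := by
  haveI : IsAffine ((Over.map h).obj (STSch R π)).left := isAffine_st π
  obtain ⟨v, hv, hvs, hvt⟩ := glue (ρ := ρQ) hc hπ0 hK hc0 hs ht hst
    (fun i => algebraMap R (Lau R) (B.mulVec y i)) (fun i => algebraMap R (Lau R) (y i)) (by
      have e1 : ∀ (ψ : Lau R →ₐ[R] Lau K') (x : R), ψ (algebraMap R (Lau R) x) = algebraMap R (Lau K') x :=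
        fun ψ x => ψ.commutes x
      simp only [e1]
      rw [hB]
      have e2 := map_mulVec (algebraMap R (Lau K')) B y
      have e3 : (B.map (algebraMap R K')).map (algebraMap K' (Lau K')) = B.map (algebraMap R (Lau K')) := by
        rw [Matrix.map_map]
        rfl
      rw [e3]
      exact e2)
  obtain ⟨m, hm, hmv⟩ := exists_lift act hc ρ ρQ (fun W => a.map (cst W)) (fun f => by
      rw [Matrix.map_map]
      congr 1
      funext x
      exact pb_cst f x) hρ (b.map (cst P)) (by rw [← Matrix.map_mul, hab]; exact Matrix.map_one _ (map_zero _) (map_one _))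
    hv
  refine ⟨fun i => cf R (elI R (Lau R) (pb σs (m i))), fun i => cf R (elI R (Lau R) (pb σt (m i))), ?_, ?_⟩
  · funext i
    let ft : Γ(P.left, ⊤) →+* Lau R := (elI R (Lau R)).comp (pb σt)
    have e1 := congrFun (map_mulVec ft (a.map (cst P)) m) i
    have e2 : (a.map (cst P)).map ft = (a.map (gam h)).map (algebraMap R (Lau R)) := by
      rw [Matrix.map_map, Matrix.map_map]
      congr 1
      funext x
      exact elI_cst σt x
    rw [e2, hmv] at e1
    have e3 := cf_mulVec (a.map (gam h)) (fun i => elI R (Lau R) (pb σt (m i))) i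
    refine e3.symm.trans ((congrArg (cf R) e1.symm).trans ?_)
    refine (congrArg (cf R) (hvt i)).trans (cf_algebraMap _)
  · have e1 := compat hst hm
    funext i
    have e2 := congrArg (cf K') (congrFun e1 i)
    rw [psi_cf _ (by norm_num), cf_mulVec] at e2
    rw [e2]
    congr 1
    funext i
    rw [psi_cf _ (by norm_num)]

theorem int_of_XY {R K' : Type*} [CommRing R] [CommRing K'] (α : R →+* K') (a : Matrix (Fin r) (Fin n) R)
    (b : Matrix (Fin n) (Fin r) R) (N : Matrix (Fin n) (Fin n) K')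
    (hN : N * (1 - b * a).map α = (1 - b * a).map α)
    (H : ∀ y : Fin r → R, ∃ X Y : Fin n → R, a.mulVec Y = y ∧ N.mulVec (fun i => α (Y i)) = fun i => α (X i)) :
    ∃ B : Matrix (Fin n) (Fin n) R, N = B.map α := by
  choose X Y hY hX using fun j : Fin n => H (fun i => a i j)
  let X' : Matrix (Fin n) (Fin n) R := fun i j => X j i
  let Y' : Matrix (Fin n) (Fin n) R := fun i j => Y j i
  have h1 : a * Y' = a := by
    ext i j
    exact congrFun (hY j) i
  have h2 : N * Y'.map α = X'.map α := by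
    ext i j
    exact congrFun (hX j) i
  refine ⟨(1 - b * a) + X' - (1 - b * a) * Y', ?_⟩
  have h3 : N = N * (1 - b * a).map α + N * (b * a).map α := by
    rw [← mul_add, ← Matrix.map_add _ (map_add α), sub_add_cancel, Matrix.map_one _ (map_zero _) (map_one _), _root_.mul_one]
  have h4 : N * (b * a).map α = N * Y'.map α - N * (1 - b * a).map α * Y'.map α := by
    rw [_root_.mul_assoc, ← Matrix.map_mul, ← mul_sub, ← Matrix.map_sub _ (map_sub α)]
    congr 2
    rw [sub_mul, _root_.one_mul, Matrix.mul_assoc, h1]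
    abel
  rw [hN, h2] at h4
  rw [hN, h4] at h3
  rw [h3]
  generalize 1 - b * a = E
  rw [Matrix.map_sub _ (map_sub α), Matrix.map_add _ (map_add α), Matrix.map_mul]
  abel

/-- The inductive step of the integrality of the matrix of a point. -/
def StepProp {R : Type u} [CommRing R] {K' : Type u} [Field K'] [Algebra R K']
    {S : Scheme.{u}} {h : Spec (CommRingCat.of R) ⟶ S} {G : Over S} [GrpObj G]
    (w : (Over.map h).obj (CoactBr.sp R K') ⟶ G) : Prop :=
  ∀ (n r : ℕ) (ρ : MatRep G n) (ρQ : MatRep G r) (a : Matrix (Fin r) (Fin n) Γ(S, ⊤))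
    (b : Matrix (Fin n) (Fin r) Γ(S, ⊤)), a * b = 1 →
    (∀ {W : Over S} (g : W ⟶ G), a.map (cst W) * ρ.mat g = ρQ.mat g * a.map (cst W)) →
    nmat ρ w * ((1 - b * a).map (gam h)).map (algebraMap R K') = ((1 - b * a).map (gam h)).map (algebraMap R K') →
    (∃ B : Matrix (Fin r) (Fin r) R, nmat ρQ w = B.map (algebraMap R K')) →
    ∃ B : Matrix (Fin n) (Fin n) R, nmat ρ w = B.map (algebraMap R K')

omit [IsDomain R] [Flat p.left] [IsAffineHom p.left] [Surjective p.left] in
theorem step [IsDomain R] [IsLocalization.Away π K'] (hπ0 : π ≠ 0) (hπ : ¬ IsUnit π)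
    (hK : Function.Injective (algebraMap R K'))
    (d : ST Scheme.fppfPrecoverage R π h ⥤ᵇ AlgSt.BG Scheme.fppfPrecoverage G)
    (θ : GTrans.F' π h w ⟶ BasedFunctor.comp (subI _ _) (BasedFunctor.comp (subI _ _) d)) :
    StepProp w := by
  have hc0 : algebraMap R K' π ≠ 0 := fun h0 => hπ0 (hK (h0.trans (map_zero _).symm))
  obtain ⟨P, act, p, h1, h2, h3, h4, σs, σt, e1, e2, e3⟩ := exists_data hπ (Units.mk0 (algebraMap R K' π) hc0) rfl d θ
  intro n r ρ ρQ a b hab hρ hN ⟨B, hB⟩
  refine int_of_XY (algebraMap R K') (a.map (gam h)) (b.map (gam h)) (nmat ρ w) ?_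
    (exists_XY h1 hπ0 hK rfl e1 e2 e3 ρ ρQ a b hab hρ B hB)
  have : (1 - b.map (gam h) * a.map (gam h)) = (1 - b * a).map (gam h) := by
    rw [Matrix.map_sub _ (map_sub (gam h)), Matrix.map_mul, Matrix.map_one _ (map_zero _) (map_one _)]
  rw [this]
  exact hN

end K831.StGlue
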