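import Groth.Agent.AlgSt.K744.TorsProp
import Groth.Agent.ThetaS.K943.QuotOpen
import Groth.Agent.ThetaS.K943.CoverExt

/-!
# Open substacks of quotient stacks covered by two opens

`U₁`, `U₂` stable opens of `X`; the objects of `[X/G]` whose equivariant map lands in `U₁ ⊔ U₂` are covered (fppf) by
those for which it lands in `U₁` or in `U₂`.
-/

set_option autoImplicit false
set_option backward.isDefEq.respectTransparency false
set_option backward.isDefEq.respectTransparency.types false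
set_option linter.dupNamespace false
set_option linter.style.haveILetI false

universe w v u

open CategoryTheory CategoryTheory.Limits MonoidalCategory CartesianMonoidalCategory MonObj GrpObj AlgebraicGeometry
open FibCat K943.FibBase K943.CoverExt K943.QuotAtlas K943.QuotCover K943.QuotOpen

namespace K831.TwoCov

/-- The covering sieve contains the morphisms factoring through an object with `P`. -/
theorem cov_of_factors {C : Type u} [Category.{v} C] {ℬ : BasedCategory.{v, w} C} [hℬ : IsFibGrpd ℬ.p]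
    {P : ℬ.obj → Prop} (hP : ClosedInto P) {b b0 : ℬ.obj} (q : b0 ⟶ b) (hb0 : P b0) {V : C} (g : V ⟶ ℬ.p.obj b)
    (s : V ⟶ ℬ.p.obj b0) (e : s ≫ ℬ.p.map q = g) : cov hP b g := by
  obtain ⟨a, k, hk⟩ := hℬ.exists_lift s
  subst e
  exact ⟨a, k ≫ q, hP k hb0, inferInstance⟩

variable {S' S : Scheme.{u}} (h : S' ⟶ S) {G : Over S'} [GrpObj G] {X : Over S'} {aX : AlgGrp.Action G X}
  (U₁ U₂ : X.left.Opens)

/-- The object lands in one of the two opens. -/
def InOne (K : Precoverage Scheme.{u}) (aX : AlgGrp.Action G X)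
    (b : (sub (ThetaS.overS h (AlgSt.QuotSt K G aX)) (InU K aX (U₁ ⊔ U₂))).obj) : Prop :=
  InU K aX U₁ b.obj ∨ InU K aX U₂ b.obj

theorem closedInto_inOne (K : Precoverage Scheme.{u}) : ClosedInto (InOne h U₁ U₂ K aX) := by
  intro a b m hb
  rcases hb with hb | hb
  · exact Or.inl (closedInto_inU h U₁ m.hom hb)
  · exact Or.inr (closedInto_inU h U₂ m.hom hb)

theorem inU_mono {K : Precoverage Scheme.{u}} {U U' : X.left.Opens} (hU : U ≤ U') {b : AlgSt.QuotObj K G aX}
    (hb : InU K aX U b) : InU K aX U' b := by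
  change b.φ.left ⁻¹ᵁ U' = ⊤
  rw [eq_top_iff, ← show b.φ.left ⁻¹ᵁ U = ⊤ from hb]
  exact fun x hx => hU hx

variable {U₁ U₂}

theorem cov_mem [Flat G.hom] [LocallyOfFinitePresentation G.hom] (h1 : Stable aX U₁) (h2 : Stable aX U₂)
    (b : (sub (ThetaS.overS h (AlgSt.QuotSt Scheme.fppfPrecoverage G aX)) (InU _ aX (U₁ ⊔ U₂))).obj) :
    haveI := isFibGrpd_sub (ℬ := ThetaS.overS h (AlgSt.QuotSt Scheme.fppfPrecoverage G aX))
      (closedInto_inU (aX := aX) h (U₁ ⊔ U₂))
    cov (closedInto_inOne h U₁ U₂ Scheme.fppfPrecoverage) b ∈ QuotSh.J Scheme.fppfPrecoverage S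
      ((sub (ThetaS.overS h (AlgSt.QuotSt Scheme.fppfPrecoverage G aX)) (InU _ aX (U₁ ⊔ U₂))).p.obj b) := by
  haveI := isFibGrpd_sub (ℬ := ThetaS.overS h (AlgSt.QuotSt Scheme.fppfPrecoverage G aX))
      (closedInto_inU (aX := aX) h (U₁ ⊔ U₂))
  haveI := K744.TorsProp.flat_of_torsor b.obj
  haveI := K744.TorsProp.lfp_of_torsor b.obj
  haveI := K744.TorsProp.surjective_of_torsor b.obj
  let UU : Bool → X.left.Opens := fun i => if i then U₁ else U₂
  have hUU : ∀ i, Stable aX (UU i) := by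
    intro i; cases i
    · exact h2
    · exact h1
  have hle : ∀ i, UU i ≤ U₁ ⊔ U₂ := by
    intro i; cases i
    · exact le_sup_right
    · exact le_sup_left
  let ff : ∀ i : Bool, (YU b.obj.φ (UU i)).left ⟶ b.obj.base.left := fun i =>
    (openMap b.obj.φ (UU i)).left ≫ b.obj.π.left
  have hc : Presieve.ofArrows (fun i : Bool => (YU b.obj.φ (UU i)).left) ff ∈
      Scheme.fppfPrecoverage b.obj.base.left := by
    refine (Scheme.ofArrows_mem_precoverage_iff _).2 ⟨fun x => ?_, fun i => ?_⟩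
    · obtain ⟨p, rfl⟩ := b.obj.π.left.surjective x
      have hp : p ∈ b.obj.φ.left ⁻¹ᵁ (U₁ ⊔ U₂) := by
        rw [show b.obj.φ.left ⁻¹ᵁ (U₁ ⊔ U₂) = ⊤ from b.property]; trivial
      rcases hp with hp | hp
      · exact ⟨true, ⟨p, hp⟩, rfl⟩
      · exact ⟨false, ⟨p, hp⟩, rfl⟩
    · have e1 : Flat (b.obj.φ.left ⁻¹ᵁ UU i).ι := inferInstance
      have e2 : LocallyOfFinitePresentation (b.obj.φ.left ⁻¹ᵁ UU i).ι := inferInstance
      refine ⟨?_, ?_⟩
      · change Flat ((b.obj.φ.left ⁻¹ᵁ UU i).ι ≫ b.obj.π.left)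
        infer_instance
      · change LocallyOfFinitePresentation ((b.obj.φ.left ⁻¹ᵁ UU i).ι ≫ b.obj.π.left)
        infer_instance
  rw [GrothendieckTopology.mem_over_iff]
  refine Scheme.fppfPrecoverage.toGrothendieck.superset_covering ?_ (Precoverage.generate_mem_toGrothendieck hc)
  rw [Sieve.generate_le_iff]
  rintro Z f ⟨i⟩
  rw [Sieve.overEquiv_iff]
  let b0 : (sub (ThetaS.overS h (AlgSt.QuotSt Scheme.fppfPrecoverage G aX)) (InU _ aX (U₁ ⊔ U₂))).obj :=
    ⟨uObj Scheme.fppfPrecoverage aX (YU b.obj.φ (UU i)) (openMap b.obj.φ (UU i) ≫ b.obj.φ),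
      inU_mono (hle i) (inU_YU (hUU i) b.obj.φ)⟩
  have hb0 : InOne h U₁ U₂ Scheme.fppfPrecoverage aX b0 := by
    cases i
    · exact Or.inr (inU_YU h2 b.obj.φ)
    · exact Or.inl (inU_YU h1 b.obj.φ)
  let q : b0 ⟶ b := ObjectProperty.homMk
    (uMap (K := Scheme.fppfPrecoverage) (aX := aX) (openMap b.obj.φ (UU i)) rfl ≫ qb b.obj)
  refine cov_of_factors (closedInto_inOne h U₁ U₂ Scheme.fppfPrecoverage) q hb0 _ (Over.homMk (𝟙 _) ?_) ?_
  · change 𝟙 _ ≫ ((b.obj.φ.left ⁻¹ᵁ UU i).ι ≫ b.obj.P.hom) ≫ h = ((b.obj.φ.left ⁻¹ᵁ UU i).ι ≫ b.obj.π.left) ≫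
      b.obj.base.hom ≫ h
    rw [← Over.w b.obj.π]; simp
  · apply Over.OverMorphism.ext
    exact Category.id_comp _

end K831.TwoCov
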